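import Cfsg.Agent.Lib.PComplement
import Mathlib

/-!
Groups in which every non-abelian subgroup is self-normalising: inheritance and the structure of the
solvable ones.
-/

set_option autoImplicit false
set_option linter.unusedSectionVars false
set_option linter.style.haveILetI false

namespace CfsgLib.SelfNormNA

open Cfsg Subgroup
open scoped commutatorElement

universe u

variable {G : Type u} [Group G]

/-- Every non-abelian subgroup is self-normalising. -/
def Prop' (G : Type u) [Group G] : Prop :=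
  ∀ H : Subgroup G, ¬ IsMulCommutative H → Subgroup.normalizer (H : Set G) = H

theorem isMulCommutative_iff {H : Subgroup G} : IsMulCommutative H ↔ ∀ a ∈ H, ∀ b ∈ H, a * b = b * a :=
  ⟨fun h a ha b hb => congrArg Subtype.val (h.is_comm.comm ⟨a, ha⟩ ⟨b, hb⟩),
    fun h => ⟨⟨fun a b => Subtype.ext (h a a.2 b b.2)⟩⟩⟩

theorem of_injective {K : Type*} [Group K] (h : Prop' G) (f : K →* G) (hf : Function.Injective f) :
    ∀ H : Subgroup K, ¬ IsMulCommutative H → Subgroup.normalizer (H : Set K) = H := by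
  intro H hH
  have h1 := h (H.map f) fun hc => hH (isMulCommutative_iff.mpr fun a ha b hb => hf (by
    rw [map_mul, map_mul]
    exact isMulCommutative_iff.mp hc _ ⟨a, ha, rfl⟩ _ ⟨b, hb, rfl⟩))
  refine le_antisymm (fun x hx => ?_) Subgroup.le_normalizer
  have h2 : f x ∈ H.map f := h1 ▸ Subgroup.le_normalizer_map f ⟨x, hx, rfl⟩
  obtain ⟨y, hy, e⟩ := h2
  exact hf e ▸ hy

theorem subgroup (h : Prop' G) (K : Subgroup G) : Prop' ↥K := of_injective h K.subtype K.subtype_injective

theorem quot (h : Prop' G) (N : Subgroup G) [N.Normal] : Prop' (G ⧸ N) := by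
  intro H hH
  have h1 := h (H.comap (QuotientGroup.mk' N)) fun hc => hH (isMulCommutative_iff.mpr fun a ha b hb => by
    obtain ⟨a, rfl⟩ := QuotientGroup.mk_surjective a
    obtain ⟨b, rfl⟩ := QuotientGroup.mk_surjective b
    rw [← QuotientGroup.mk_mul, ← QuotientGroup.mk_mul, isMulCommutative_iff.mp hc a ha b hb])
  refine Subgroup.comap_injective (QuotientGroup.mk'_surjective N) ?_
  rw [Subgroup.comap_normalizer_eq_of_surjective _ (QuotientGroup.mk'_surjective N), h1]

/-- Proper normal subgroups are abelian. -/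
theorem comm_of_normal (h : Prop' G) {N : Subgroup G} (hN : N.Normal) (hne : N ≠ ⊤) :
    ∀ a ∈ N, ∀ b ∈ N, a * b = b * a := by
  refine isMulCommutative_iff.mp ?_
  by_contra hc
  exact hne (by rw [← h N hc, Subgroup.normalizer_eq_top_iff.mpr hN])

/-- A proper derived subgroup makes the group solvable. -/
theorem solvable_of_commutator_ne_top (h : Prop' G) (hne : commutator G ≠ ⊤) : Group.IsSolvable G := by
  haveI : Group.IsSolvable (commutator G) := Group.isSolvable_of_comm fun a b =>
    Subtype.ext (comm_of_normal h inferInstance hne a a.2 b b.2)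
  refine Group.isSolvable_of_ker_le_range (commutator G).subtype (QuotientGroup.mk' (commutator G)) ?_
    (hG' := inferInstance) (hG'' := ?_)
  · rw [QuotientGroup.ker_mk', Subgroup.range_subtype]
  · exact Group.isSolvable_of_comm fun a b =>
      (inferInstance : Std.Commutative (α := Abelianization G) (· * ·)).comm a b

/-- A central element of prime order in the derived subgroup forces the Sylow subgroup to be non-abelian. -/
theorem transfer_false [Finite G] {r : ℕ} [Fact r.Prime] {z : G} (hz : z ∈ Subgroup.center G)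
    (hzc : z ∈ commutator G) (hzo : orderOf z = r) (R : Sylow r G) (hR : ∀ a ∈ R, ∀ b ∈ R, a * b = b * a) :
    False := by
  haveI : (Subgroup.zpowers z).Normal := ⟨fun x hx g => by
    rwa [Subgroup.mem_center_iff.mp (Subgroup.zpowers_le.mpr hz hx) g, mul_inv_cancel_right]⟩
  have hzR : z ∈ R := by
    have h2 : IsPGroup r ↥(Subgroup.zpowers z ⊔ (R : Subgroup G)) :=
      (IsPGroup.of_card (n := 1) (by rw [Nat.card_zpowers, hzo, pow_one]) : IsPGroup r ↥(Subgroup.zpowers z)).to_sup_of_normal_left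
        R.2
    exact le_sup_left.trans (R.3 h2 le_sup_right).le (Subgroup.mem_zpowers z)
  letI : CommGroup ↥(R : Subgroup G) :=
    { (inferInstance : Group ↥(R : Subgroup G)) with mul_comm := fun a b => Subtype.ext (hR a a.2 b b.2) }
  have key : ∀ (k : ℕ) (g₀ : G), g₀⁻¹ * z ^ k * g₀ ∈ (R : Subgroup G) → g₀⁻¹ * z ^ k * g₀ = z ^ k := fun k g₀ _ => by
    rw [mul_assoc, ← Subgroup.mem_center_iff.mp (pow_mem hz k) g₀, inv_mul_cancel_left]
  have h1 : MonoidHom.transfer (MonoidHom.id ↥(R : Subgroup G)) z = 1 :=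
    Abelianization.commutator_subset_ker _ hzc
  rw [MonoidHom.transfer_eq_pow _ z key] at h1
  have h3 := orderOf_dvd_of_pow_eq_one (congrArg Subtype.val h1 : z ^ (R : Subgroup G).index = 1)
  rw [hzo] at h3
  exact R.not_dvd_index h3

/-- A subgroup containing a Sylow subgroup for each prime is everything. -/
theorem eq_top_of_sylow_le [Finite G] (C : Subgroup G)
    (hC : ∀ (p : ℕ) (_ : Fact p.Prime) (P : Sylow p G), (P : Subgroup G) ≤ C) : C = ⊤ := by
  by_contra hne
  obtain ⟨p, hp, hpd⟩ := Nat.exists_prime_and_dvd (fun e => hne (Subgroup.index_eq_one.mp e))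
  haveI : Fact p.Prime := ⟨hp⟩
  obtain ⟨P⟩ := (inferInstance : Nonempty (Sylow p G))
  exact P.not_dvd_index (hpd.trans (Subgroup.index_dvd_of_le (hC p ⟨hp⟩ P)))

/-- A nilpotent group of this kind is abelian or of prime power order. -/
theorem nilpotent_cases [Finite G] (h : Prop' G) [Group.IsNilpotent G] (hnc : ¬ ∀ a b : G, a * b = b * a) :
    ∃ p : ℕ, p.Prime ∧ IsPGroup p G := by
  by_contra hno
  push Not at hno
  have hn : ∀ (p : ℕ) (_ : Fact p.Prime) (P : Sylow p G), (P : Subgroup G).Normal := fun p hp P =>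
    Sylow.normal_of_normalizerCondition Group.normalizerCondition_of_isNilpotent P
  have hcomm : ∀ (p : ℕ) (_ : Fact p.Prime) (P : Sylow p G), ∀ a ∈ P, ∀ b ∈ P, a * b = b * a := by
    intro p hp P
    refine comm_of_normal h (hn p hp P) fun e => hno p hp.out ?_
    intro g
    obtain ⟨k, hk⟩ := P.2 ⟨g, show g ∈ (P : Subgroup G) by rw [e]; exact Subgroup.mem_top g⟩
    exact ⟨k, congrArg Subtype.val hk⟩
  have hcenter : Subgroup.center G = ⊤ := by
    refine eq_top_of_sylow_le _ fun p hp P x hx => Subgroup.mem_center_iff.mpr ?_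
    have hC : Subgroup.centralizer ({x} : Set G) = ⊤ := by
      refine eq_top_of_sylow_le _ fun r hr R y hy => mem_centralizer_singleton_iff.mpr ?_
      by_cases hpr : r = p
      · subst hpr
        haveI := hn r hr R
        haveI := Sylow.unique_of_normal R ‹_›
        rw [Subsingleton.elim P R] at hx
        exact hcomm r hr R y hy x hx
      · exact Subgroup.commute_of_normal_of_disjoint _ _ (hn r hr R) (hn p hp P)
          (IsPGroup.disjoint_of_ne r p hpr _ _ R.2 P.2) y x hy hx
    intro g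
    exact mem_centralizer_singleton_iff.mp (hC ▸ Subgroup.mem_top g)
  exact hnc fun a b => Subgroup.mem_center_iff.mp (hcenter ▸ Subgroup.mem_top b) a

/-- The structure of the non-abelian solvable groups of this kind. -/
theorem solvable_cases [Finite G] (h : Prop' G) [Group.IsSolvable G] (hnc : ¬ ∀ a b : G, a * b = b * a) :
    (∃ p : ℕ, p.Prime ∧ IsPGroup p G) ∨ ∃ (q : ℕ) (M : Subgroup G), q.Prime ∧ M.Normal ∧ M.index = q ∧
      (∀ a ∈ M, ∀ b ∈ M, a * b = b * a) ∧ ∀ N : Subgroup G, N.Normal → N ≠ ⊤ → N ≤ M := by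
  haveI : Nontrivial G := not_subsingleton_iff_nontrivial.mp fun hs => hnc fun a b => Subsingleton.elim _ _
  have hlt := Group.IsSolvable.commutator_lt_top_of_nontrivial G
  obtain ⟨M, hM⟩ := (Set.toFinite {M : Subgroup G | commutator G ≤ M ∧ M ≠ ⊤}).exists_maximal
    ⟨_, le_rfl, hlt.ne⟩
  obtain ⟨⟨hMc, hMne⟩, hmax⟩ := hM
  have hMn : M.Normal := ⟨fun m hm g => by
    have e : g * m * g⁻¹ = ⁅g, m⁆ * m := by rw [commutatorElement_def]; group
    rw [e]
    exact mul_mem (hMc (Subgroup.commutator_mem_commutator (mem_top g) (mem_top m))) hm⟩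
  have habove : ∀ K : Subgroup G, M ≤ K → K = M ∨ K = ⊤ := fun K hK => by
    by_cases hK' : K = ⊤
    · exact Or.inr hK'
    · exact Or.inl (le_antisymm (hmax ⟨hMc.trans hK, hK'⟩ hK) hK)
  haveI := hMn
  -- the index is prime
  obtain ⟨q, hq, hidx⟩ : ∃ q, q.Prime ∧ M.index = q := by
    obtain ⟨r, hr, hrd⟩ := Nat.exists_prime_and_dvd (fun e => hMne (Subgroup.index_eq_one.mp e))
    haveI : Fact r.Prime := ⟨hr⟩
    obtain ⟨z, hz⟩ := exists_prime_orderOf_dvd_card' (G := G ⧸ M) r hrd
    have htop : (Subgroup.zpowers z).comap (QuotientGroup.mk' M) = ⊤ := by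
      refine (habove _ fun m hm => ?_).resolve_left fun e => hr.ne_one ?_
      · show (m : G ⧸ M) ∈ Subgroup.zpowers z
        rw [(QuotientGroup.eq_one_iff m).mpr hm]
        exact one_mem _
      · obtain ⟨g, rfl⟩ := QuotientGroup.mk_surjective z
        have hg : g ∈ (Subgroup.zpowers (g : G ⧸ M)).comap (QuotientGroup.mk' M) := Subgroup.mem_zpowers _
        rw [e] at hg
        rw [← hz, (QuotientGroup.eq_one_iff g).mpr hg, orderOf_one]
    refine ⟨r, hr, ?_⟩
    have hz' : Subgroup.zpowers z = ⊤ := Subgroup.comap_injective (QuotientGroup.mk'_surjective M)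
      (htop.trans (Subgroup.comap_top _).symm)
    rw [Subgroup.index_eq_card, ← hz, ← Nat.card_zpowers, hz', Subgroup.card_top]
  by_cases hall : ∀ N : Subgroup G, N.Normal → N ≠ ⊤ → N ≤ M
  · exact Or.inr ⟨q, M, hq, hMn, hidx, comm_of_normal h hMn hMne, hall⟩
  left
  push Not at hall
  obtain ⟨N, hNn, hNne, hNM⟩ := hall
  have hsup : M ⊔ N = ⊤ := (habove _ le_sup_left).resolve_left fun e => hNM (e ▸ le_sup_right)
  have hcen : M ⊓ N ≤ Subgroup.center G := by
    intro x hx
    refine Subgroup.mem_center_iff.mpr fun g => mem_centralizer_singleton_iff.mp ?_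
    have hle : M ⊔ N ≤ Subgroup.centralizer ({x} : Set G) := sup_le
      (fun m hm => mem_centralizer_singleton_iff.mpr (comm_of_normal h hMn hMne m hm x hx.1))
      (fun m hm => mem_centralizer_singleton_iff.mpr (comm_of_normal h hNn hNne m hm x hx.2))
    exact hle (hsup ▸ Subgroup.mem_top g)
  have hab : ∀ a b : G, a⁻¹ * b⁻¹ * (a * b) ∈ M ⊓ N := by
    haveI := hNn
    let π := QuotientGroup.mk' (M ⊓ N)
    have hc : ∀ m ∈ M, ∀ n ∈ N, Commute (π m) (π n) := fun m hm n hn => by
      show π m * π n = π n * π m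
      rw [← map_mul, ← map_mul]
      refine QuotientGroup.eq.mpr (Subgroup.mem_inf.mpr ⟨?_, ?_⟩)
      · rw [show (m * n)⁻¹ * (n * m) = n⁻¹ * m⁻¹ * n * m by group]
        exact mul_mem (hMn.conj_mem' _ (inv_mem hm) n) hm
      · rw [show (m * n)⁻¹ * (n * m) = n⁻¹ * (m⁻¹ * n * m) by group]
        exact mul_mem (inv_mem hn) (hNn.conj_mem' _ hn m)
    intro a b
    obtain ⟨m, hm, n, hn, rfl⟩ := Subgroup.mem_sup_of_normal_right.mp (hsup ▸ Subgroup.mem_top a : a ∈ M ⊔ N)
    obtain ⟨m', hm', n', hn', rfl⟩ := Subgroup.mem_sup_of_normal_right.mp (hsup ▸ Subgroup.mem_top b : b ∈ M ⊔ N)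
    have e : Commute (π (m * n)) (π (m' * n')) := by
      rw [map_mul, map_mul]
      exact ((show Commute (π m) (π m') from (by
          show π m * π m' = π m' * π m
          rw [← map_mul, ← map_mul, comm_of_normal h hMn hMne m hm m' hm'])).mul_right (hc m hm n' hn')).mul_left
        ((hc m' hm' n hn).symm.mul_right (by
          show π n * π n' = π n' * π n
          rw [← map_mul, ← map_mul, comm_of_normal h hNn hNne n hn n' hn']))
    refine (QuotientGroup.eq_one_iff _).mp ?_
    show π _ = 1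
    rw [map_mul, map_mul, map_inv, map_inv, map_mul π (m * n), e.eq]
    group
  haveI : Group.IsNilpotent (G ⧸ Subgroup.center G) := by
    letI : CommGroup (G ⧸ Subgroup.center G) :=
      { (inferInstance : Group (G ⧸ Subgroup.center G)) with
        mul_comm := fun x y => by
          obtain ⟨a, rfl⟩ := QuotientGroup.mk_surjective x
          obtain ⟨b, rfl⟩ := QuotientGroup.mk_surjective y
          rw [← QuotientGroup.mk_mul, ← QuotientGroup.mk_mul, QuotientGroup.eq, mul_inv_rev]
          exact hcen (hab b a) }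
    exact CommGroup.isNilpotent
  haveI : Group.IsNilpotent G := Group.of_quotient_center_nilpotent ‹_›
  exact nilpotent_cases h hnc

/-- With a central element outside a `q`-group: the element is a `q`-element and the Sylow `q`-subgroups are
cyclic and central in their normalisers. -/
theorem caseB [Finite G] {q : ℕ} [Fact q.Prime] {M : Subgroup G} (hMn : M.Normal)
    (hidx : M.index = q) (hMab : ∀ a ∈ M, ∀ b ∈ M, a * b = b * a)
    (hall : ∀ N : Subgroup G, N.Normal → N ≠ ⊤ → N ≤ M) (hq : ¬ IsPGroup q G)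
    (R : Sylow q G) :
    IsCyclic (R : Subgroup G) ∧ normalizer ((R : Subgroup G) : Set G) ≤ centralizer ((R : Subgroup G) : Set G) ∧
      ∀ x ∈ Subgroup.center G, ∀ r : ℕ, r.Prime → orderOf x = r → r = q := by
  have hqp : q.Prime := Fact.out
  haveI := hMn
  have hcop : ∀ g : G, (orderOf g).Coprime q → g ∈ M := fun g hg => by
    rw [← QuotientGroup.eq_one_iff, ← orderOf_eq_one_iff]
    exact Nat.eq_one_of_dvd_coprimes hg (orderOf_map_dvd (QuotientGroup.mk' M) g)
      (hidx ▸ _root_.orderOf_dvd_natCard _)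
  have hMne : M ≠ ⊤ := fun e => hqp.ne_one (by rw [← hidx, e, Subgroup.index_top])
  -- the `q'`-elements
  let Q : Subgroup G :=
    { carrier := {g | (orderOf g).Coprime q}
      one_mem' := by simp
      mul_mem' := fun {a b} ha hb =>
        Nat.Coprime.coprime_dvd_left ((show Commute a b from hMab a (hcop a ha) b (hcop b hb)).orderOf_mul_dvd_lcm)
          (Nat.Coprime.coprime_dvd_left (Nat.lcm_dvd_mul _ _) (Nat.Coprime.mul_left ha hb))
      inv_mem' := fun {a} ha => by simpa using ha }
  have hQn : Q.Normal := ⟨fun a ha g => by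
    show (orderOf (g * a * g⁻¹)).Coprime q
    rw [show orderOf (g * a * g⁻¹) = orderOf a from MulEquiv.orderOf_eq (MulAut.conj g) a]
    exact ha⟩
  haveI := hQn
  have hres : pResidual q G ≤ Q := pResidual_le fun g hg => hg
  have hQR : Q ⊔ (R : Subgroup G) = ⊤ := sylow_sup_eq_top_of_pResidual_le R (N := Q) hres
  have hdis : ∀ x ∈ Q, x ∈ R → x = 1 := by
    intro x hxQ hxR
    obtain ⟨k, hk⟩ := IsPGroup.iff_orderOf.mp R.2 ⟨x, hxR⟩
    rw [Subgroup.orderOf_mk] at hk
    have h1 : (orderOf x).Coprime (q ^ k) := hxQ.pow_right k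
    rw [← hk, Nat.coprime_self] at h1
    exact orderOf_eq_one_iff.mp h1
  -- a generator of the Sylow subgroup
  obtain ⟨y, hyR, hyM⟩ : ∃ y ∈ R, y ∉ M := by
    by_contra hc
    push Not at hc
    exact hMne (top_le_iff.mp (hQR ▸ sup_le (fun g hg => hcop g hg) hc))
  have hgen : (R : Subgroup G) = Subgroup.zpowers y := by
    refine (le_antisymm (Subgroup.zpowers_le.mpr hyR) ?_).symm
    by_contra hne
    have hlt : (Subgroup.zpowers y).subgroupOf (R : Subgroup G) ≠ ⊤ := fun e =>
      hne (Subgroup.subgroupOf_eq_top.mp e)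
    obtain ⟨R₀, hR₀, hyR₀⟩ := (eq_top_or_exists_le_coatom _).resolve_left hlt
    have hR₀n : R₀.Normal := (CfsgLib.index_coatom_pGroup R.2 hR₀).1
    set N := Q ⊔ R₀.map (R : Subgroup G).subtype with hN
    have hNn : N.Normal := by
      rw [← Subgroup.normalizer_eq_top_iff, eq_top_iff, ← hQR]
      refine sup_le (le_sup_left.trans Subgroup.le_normalizer) fun g hg => ?_
      have h1 : ∀ c ∈ (R : Subgroup G), ∀ x ∈ R₀.map (R : Subgroup G).subtype,
          c * x * c⁻¹ ∈ R₀.map (R : Subgroup G).subtype := by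
        rintro c hc _ ⟨⟨x, hx⟩, hx₀, rfl⟩
        exact ⟨_, hR₀n.conj_mem _ hx₀ ⟨c, hc⟩, rfl⟩
      refine Subgroup.mem_normalizer_iff.mpr fun x => ⟨fun hx => ?_, fun hx => ?_⟩
      · obtain ⟨a, ha, b, hb, rfl⟩ := Subgroup.mem_sup_of_normal_left.mp hx
        rw [show g * (a * b) * g⁻¹ = g * a * g⁻¹ * (g * b * g⁻¹) by group]
        exact mul_mem (Subgroup.mem_sup_left (hQn.conj_mem a ha g)) (Subgroup.mem_sup_right (h1 g hg b hb))
      · obtain ⟨a, ha, b, hb, e⟩ := Subgroup.mem_sup_of_normal_left.mp hx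
        rw [show x = g⁻¹ * a * g * (g⁻¹ * b * g⁻¹⁻¹) by
          calc x = g⁻¹ * (g * x * g⁻¹) * g := by group
            _ = g⁻¹ * (a * b) * g := by rw [e]
            _ = _ := by group]
        exact mul_mem (Subgroup.mem_sup_left (hQn.conj_mem' a ha g)) (Subgroup.mem_sup_right (h1 _ (inv_mem hg) b hb))
    refine hyM (hall N hNn ?_ (Subgroup.mem_sup_right ⟨⟨y, hyR⟩, hyR₀ (Subgroup.mem_zpowers y), rfl⟩))
    intro e
    refine hR₀.1 ((Subgroup.eq_top_iff' _).mpr fun x => ?_)
    obtain ⟨a, ha, b, ⟨b', hb', rfl⟩, e'⟩ := Subgroup.mem_sup_of_normal_left.mp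
      (show (x : G) ∈ N from e ▸ Subgroup.mem_top _)
    have ha1 : a = 1 := hdis a ha (by
      rw [eq_mul_inv_of_mul_eq e']
      exact mul_mem x.2 (inv_mem b'.2))
    rw [ha1, one_mul] at e'
    exact (Subtype.ext e' : b' = x) ▸ hb'
  refine ⟨by rw [hgen]; infer_instance, fun n hn => ?_, fun x hx r hr hxr => ?_⟩
  · obtain ⟨a, ha, b, hb, rfl⟩ := Subgroup.mem_sup_of_normal_left.mp (hQR ▸ Subgroup.mem_top n : n ∈ Q ⊔ (R : Subgroup G))
    have hRab : ∀ c ∈ (R : Subgroup G), ∀ d ∈ (R : Subgroup G), c * d = d * c := fun c hc d hd => by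
      rw [hgen] at hc hd
      exact setLike_mul_comm hc hd
    have haN : a ∈ normalizer ((R : Subgroup G) : Set G) :=
      (Subgroup.mul_mem_cancel_right _ (Subgroup.le_normalizer hb)).mp hn
    refine Subgroup.mem_centralizer_iff.mpr fun c hc => ?_
    have e1 : a * c * a⁻¹ * c⁻¹ = 1 := hdis _ (by
        rw [show a * c * a⁻¹ * c⁻¹ = a * (c * a⁻¹ * c⁻¹) by group]
        exact mul_mem ha (hQn.conj_mem _ (inv_mem ha) c))
      (mul_mem ((Subgroup.mem_normalizer_iff.mp haN c).mp hc) (inv_mem hc))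
    have hac : a * c = c * a := mul_inv_eq_iff_eq_mul.mp (mul_inv_eq_one.mp e1)
    exact ((show Commute c a from hac.symm).mul_right (show Commute c b from hRab c hc b hb)).eq
  · by_contra hne
    haveI : Fact r.Prime := ⟨hr⟩
    have hxQ : (orderOf x).Coprime q := by rw [hxr]; exact (Nat.coprime_primes hr hqp).mpr hne
    have hxc : x ∈ commutator G := by
      have hgenc : commutator G ⊔ Subgroup.zpowers y = ⊤ := by
        by_contra hne'
        refine hyM (hall _ ⟨fun m hm g => ?_⟩ hne' (Subgroup.mem_sup_right (Subgroup.mem_zpowers y)))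
        rw [show g * m * g⁻¹ = ⁅g, m⁆ * m by rw [commutatorElement_def]; group]
        exact mul_mem (Subgroup.mem_sup_left (Subgroup.commutator_mem_commutator (mem_top g) (mem_top m))) hm
      obtain ⟨c, hc, w, hw, rfl⟩ :=
        Subgroup.mem_sup_of_normal_left.mp (hgenc ▸ Subgroup.mem_top x : x ∈ commutator G ⊔ Subgroup.zpowers y)
      have e : ((c * w : G) : G ⧸ commutator G) = (w : G ⧸ commutator G) := by
        rw [QuotientGroup.mk_mul, (QuotientGroup.eq_one_iff c).mpr hc, one_mul]
      rw [← QuotientGroup.eq_one_iff, ← orderOf_eq_one_iff]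
      obtain ⟨k, hk⟩ := IsPGroup.iff_orderOf.mp R.2 ⟨w, hgen.ge hw⟩
      rw [Subgroup.orderOf_mk] at hk
      refine Nat.eq_one_of_dvd_coprimes (hxQ.pow_right k) (orderOf_map_dvd (QuotientGroup.mk' (commutator G)) _) ?_
      rw [e, ← hk]
      exact orderOf_map_dvd (QuotientGroup.mk' (commutator G)) _
    obtain ⟨Rr⟩ := (inferInstance : Nonempty (Sylow r G))
    have hRr : ∀ a ∈ Rr, a ∈ M := fun a ha => hcop a (by
      obtain ⟨k, hk⟩ := IsPGroup.iff_orderOf.mp Rr.2 ⟨a, ha⟩
      rw [Subgroup.orderOf_mk] at hk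
      rw [hk]
      exact ((Nat.coprime_primes hr hqp).mpr hne).pow_left k)
    exact transfer_false hx hxc hxr Rr fun a ha b hb => hMab a (hRr a ha) b (hRr b hb)

end CfsgLib.SelfNormNA
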