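import Cfsg.Agent.Lib.SelfNormNA.Basic
import Cfsg.Agent.Lib.TwoFusion.CATriple
import Cfsg.Agent.Lib.CAEven.CT
import Cfsg.Agent.Lib.Solvable.CNTheorem
import Cfsg.Agent.Lib.Elementary

/-!
In `SL(2, 2^n)` with `2^n - 1` prime every non-abelian subgroup is self-normalising.
-/

set_option autoImplicit false
set_option linter.unusedSectionVars false
set_option linter.style.haveILetI false

namespace CfsgLib.SelfNormNA

open Cfsg Subgroup
open CfsgLib.Involutions (mul_self_eq_one_of_orderOf inv_eq_self_of_orderOf orderOf_conj)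

universe u

variable {G : Type u} [Group G] [Finite G]

theorem mem_zpowers_of_cyclic {R : Subgroup G} [IsCyclic R] {x y : G} (hx : x ∈ R) (hy : y ∈ R)
    (e : orderOf y = orderOf x) : y ∈ Subgroup.zpowers x := by
  classical
  haveI := Fintype.ofFinite R
  let A : Finset R := Finset.univ.filter fun c => c ^ orderOf x = 1
  let B : Finset R := Finset.univ.filter fun c => (c : G) ∈ Subgroup.zpowers x
  have hBA : B = A := by
    refine Finset.eq_of_subset_of_card_le (fun c hc => ?_) ?_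
    · simp only [B, A, Finset.mem_filter, Finset.mem_univ, true_and] at hc ⊢
      obtain ⟨k, hk⟩ := hc
      refine Subtype.ext ?_
      push_cast
      rw [← hk, ← zpow_natCast, ← zpow_mul, mul_comm, zpow_mul, zpow_natCast, pow_orderOf_eq_one, one_zpow]
    · refine (IsCyclic.card_pow_eq_one_le (orderOf_pos x)).trans (le_of_eq ?_)
      rw [← Nat.card_zpowers, ← Nat.card_congr (Subgroup.subgroupOfEquivOfLe (Subgroup.zpowers_le.mpr hx)).toEquiv,
        Nat.card_eq_fintype_card, Fintype.card_subtype]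
      rfl
  have hmem : (⟨y, hy⟩ : R) ∈ A := by
    simp only [A, Finset.mem_filter, Finset.mem_univ, true_and]
    refine Subtype.ext ?_
    show y ^ orderOf x = 1
    rw [← e, pow_orderOf_eq_one]
  rw [← hBA] at hmem
  simpa [B] using hmem

/-- An element of odd order centralises what its square centralises. -/
theorem commute_of_sq {h z : G} (ho : Odd (orderOf h)) (hc : Commute (h * h) z) : Commute h z := by
  obtain ⟨k, hk⟩ := ho
  have e : (h * h) ^ (k + 1) = h := by
    rw [← pow_two, ← pow_mul, show 2 * (k + 1) = (2 * k + 1) + 1 by ring, pow_succ, ← hk, pow_orderOf_eq_one, one_mul]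
  rw [← e]
  exact hc.pow_left _

/-- An element commuting with an involution has order at most two. -/
theorem eq_one_of_odd {T : Sylow 2 G} (h : CAGroup.Hyp T) {t c : G} (ht : orderOf t = 2) (hc : c * t = t * c)
    (hodd : Odd (orderOf c)) : c = 1 := CAGroup.eq_one_of_odd h ht hc hodd

/-- A Sylow subgroup satisfies the hypotheses with any other one. -/
theorem hyp_of {T : Sylow 2 G} (h : CAGroup.Hyp T) (T' : Sylow 2 G) : CAGroup.Hyp T' := by
  haveI : Fact (Nat.Prime 2) := ⟨Nat.prime_two⟩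
  refine ⟨fun hc => h.nc ?_, fun hn => h.nn ?_, h.cent⟩
  · exact (Sylow.equiv T T').isCyclic.mpr hc
  · haveI := Sylow.unique_of_normal T' hn
    rw [Subsingleton.elim T T']
    exact hn

variable [IsSimpleGroup G]

/-- Subgroups of odd order are abelian. -/
theorem odd_comm (hCT : CAEven.IsCT G) (hcyc : ∀ (r : ℕ) (_ : Fact r.Prime), r ≠ 2 → ∀ R : Sylow r G, IsCyclic (R : Subgroup G))
    (hreal : ∀ z h : G, Odd (orderOf z) → h * z * h⁻¹ ∈ Subgroup.zpowers z → h * z * h⁻¹ = z ∨ h * z * h⁻¹ = z⁻¹)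
    (H : Subgroup G) (hodd : Odd (Nat.card H)) : ∀ a ∈ H, ∀ b ∈ H, a * b = b * a := by
  by_cases hbot : H = ⊥
  · intro a ha b hb
    rw [hbot, Subgroup.mem_bot] at ha hb
    rw [ha, hb]
  haveI : Nontrivial H := (Subgroup.nontrivial_iff_ne_bot _).mpr hbot
  haveI : Group.IsSolvable H := CN.isSolvable_of_odd_cn (Nat.card H) hodd (fun z hz => by
    letI : CommGroup (centralizer ({z} : Set H)) :=
      { (inferInstance : Group (centralizer ({z} : Set H))) with
        mul_comm := fun a b => Subtype.ext (Subtype.ext (CAEven.comm_in_centralizer hCT (z := (z : G))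
          (fun e => hz (Subtype.ext e)) (congrArg Subtype.val (mem_centralizer_singleton_iff.mp a.2))
          (congrArg Subtype.val (mem_centralizer_singleton_iff.mp b.2)))) }
    exact CommGroup.isNilpotent) rfl
  obtain ⟨B, hBn, -, hB0, hBmin⟩ := CfsgLib.exists_minimal_normal (N := (⊤ : Subgroup H)) top_ne_bot
  have hBab : ∀ a ∈ B, ∀ b ∈ B, a * b = b * a := by
    haveI : Nontrivial B := (Subgroup.nontrivial_iff_ne_bot _).mpr hB0
    have hlt := Group.IsSolvable.commutator_lt_top_of_nontrivial B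
    have hmap : (commutator B).map B.subtype = ⁅B, B⁆ := Subgroup.map_subtype_commutator B
    rcases hBmin ⁅B, B⁆ inferInstance (Subgroup.commutator_le_left B B) with e | e
    · intro a ha b hb
      have := Subgroup.commutator_mem_commutator ha hb
      rw [e, Subgroup.mem_bot, commutatorElement_eq_one_iff_mul_comm] at this
      exact this
    · refine absurd (Subgroup.map_injective B.subtype_injective ?_) hlt.ne
      rw [hmap, e, ← MonoidHom.range_eq_map, Subgroup.range_subtype]
  obtain ⟨r, hr, hrd⟩ := Nat.exists_prime_and_dvd (show Nat.card B ≠ 1 from fun e => hB0 (Subgroup.card_eq_one.mp e))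
  haveI : Fact r.Prime := ⟨hr⟩
  obtain ⟨⟨z, hzB⟩, hzo⟩ := exists_prime_orderOf_dvd_card' (G := B) r hrd
  rw [Subgroup.orderOf_mk] at hzo
  have hzo' : orderOf (z : G) = r := by rw [Subgroup.orderOf_coe, hzo]
  have hr2 : r ≠ 2 := fun e => by
    have := hodd.of_dvd_nat (_root_.orderOf_dvd_natCard z)
    rw [hzo, e] at this
    exact absurd this (by decide)
  have hall : ∀ h ∈ H, h * (z : G) = z * h := by
    intro h hh
    set w : H := ⟨h, hh⟩ * z * (⟨h, hh⟩ : H)⁻¹ with hw
    have hwB : w ∈ B := hBn.conj_mem z hzB ⟨h, hh⟩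
    have hwo : orderOf (w : G) = r := by
      rw [hw]
      push_cast
      rw [orderOf_conj, hzo']
    have hc : Commute (z : G) (w : G) := congrArg Subtype.val (hBab z hzB w hwB)
    have hp : IsPGroup r ↥(Subgroup.zpowers (z : G) ⊔ Subgroup.zpowers (w : G)) := by
      refine (IsPGroup.of_card (n := 1) (by rw [Nat.card_zpowers, hzo', pow_one]) :
        IsPGroup r ↥(Subgroup.zpowers (z : G))).to_sup_of_normal_right'
        (IsPGroup.of_card (n := 1) (by rw [Nat.card_zpowers, hwo, pow_one])) ?_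
      refine Subgroup.zpowers_le.mpr (Subgroup.mem_normalizer_iff.mpr fun c => ?_)
      refine ⟨fun hc' => ?_, fun hc' => ?_⟩
      · obtain ⟨k, rfl⟩ := hc'
        show (z : G) * (w : G) ^ k * (z : G)⁻¹ ∈ _
        rw [(hc.zpow_right k).eq, mul_inv_cancel_right]
        exact zpow_mem (Subgroup.mem_zpowers _) k
      · obtain ⟨k, hk⟩ := hc'
        have e : c = (w : G) ^ k := by
          calc c = (z : G)⁻¹ * ((z : G) * c * (z : G)⁻¹) * z := by group
            _ = (z : G)⁻¹ * ((w : G) ^ k * z) := by rw [← hk]; group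
            _ = _ := by rw [← (hc.zpow_right k).eq]; group
        rw [e]
        exact zpow_mem (Subgroup.mem_zpowers _) k
    obtain ⟨R, hR⟩ := hp.exists_le_sylow
    haveI := hcyc r ⟨hr⟩ hr2 R
    have hmem := mem_zpowers_of_cyclic (hR (Subgroup.mem_sup_left (Subgroup.mem_zpowers (z : G))))
      (hR (Subgroup.mem_sup_right (Subgroup.mem_zpowers (w : G)))) (hwo.trans hzo'.symm)
    have hzodd : Odd (orderOf (z : G)) := by rw [hzo']; exact hr.odd_of_ne_two hr2
    have hhodd : Odd (orderOf h) := hodd.of_dvd_nat (Subgroup.orderOf_dvd_natCard H hh)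
    rw [hw] at hmem
    push_cast at hmem
    rcases hreal z h hzodd hmem with e | e
    · exact mul_inv_eq_iff_eq_mul.mp e
    · refine (commute_of_sq hhodd (mul_inv_eq_iff_eq_mul.mp ?_)).eq
      calc h * h * (z : G) * (h * h)⁻¹ = h * (h * z * h⁻¹) * h⁻¹ := by group
        _ = h * (z : G)⁻¹ * h⁻¹ := by rw [e]
        _ = (h * z * h⁻¹)⁻¹ := by group
        _ = z := by rw [e, inv_inv]
  have hz1 : (z : G) ≠ 1 := fun e => hr.ne_one (by rw [← hzo', e, orderOf_one])
  exact fun a ha b hb => CAEven.comm_in_centralizer hCT hz1 (hall a ha) (hall b hb)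

/-- The converse. -/
theorem converse (hG : ¬ IsMulCommutative G) (hCT : CAEven.IsCT G)
    (hcyc : ∀ (r : ℕ) (_ : Fact r.Prime), r ≠ 2 → ∀ R : Sylow r G, IsCyclic (R : Subgroup G))
    (hreal : ∀ z h : G, Odd (orderOf z) → h * z * h⁻¹ ∈ Subgroup.zpowers z → h * z * h⁻¹ = z ∨ h * z * h⁻¹ = z⁻¹)
    (hprime : ∀ T : Sylow 2 G, CAGroup.Hyp T → (Nat.card T - 1).Prime) : Prop' G := by
  classical
  haveI : Fact (Nat.Prime 2) := ⟨Nat.prime_two⟩
  obtain ⟨T₁, hT₁⟩ := CAEven.exists_hyp hCT hG
  intro H hH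
  have hnc : ¬ ∀ a ∈ H, ∀ b ∈ H, a * b = b * a := fun hc => hH (isMulCommutative_iff.mpr hc)
  have heven : ¬ Odd (Nat.card H) := fun ho => hnc (odd_comm hCT hcyc hreal H ho)
  obtain ⟨⟨s, hsH⟩, hso⟩ := exists_prime_orderOf_dvd_card' (G := H) 2 (Nat.not_odd_iff_even.mp heven).two_dvd
  rw [Subgroup.orderOf_mk] at hso
  obtain ⟨T, hsT⟩ := (IsPGroup.of_card (n := 1) (by rw [Nat.card_zpowers, hso, pow_one]) :
    IsPGroup 2 ↥(Subgroup.zpowers s)).exists_le_sylow
  have hs : s ∈ T := hsT (Subgroup.mem_zpowers s)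
  have h := hyp_of hT₁ T
  have hCs := CAGroup.centralizer_eq h hs hso
  have hp := hprime T h
  have hcardN := CAGroup.card_H h
  have hq := CAGroup.card_T h
  obtain ⟨u, hu, huH⟩ := CAGroup.exists_u h
  refine le_antisymm (fun k hk => ?_) Subgroup.le_normalizer
  have hkconj : ∀ c ∈ H, k * c * k⁻¹ ∈ H := fun c hc => (Subgroup.mem_normalizer_iff.mp hk c).mp hc
  by_cases hone : ∀ i ∈ H, orderOf i = 2 → i * s = s * i
  · -- `H` is a Sylow normaliser
    have hHN : H ≤ normalizer ((T : Subgroup G) : Set G) := fun c hc => by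
      refine StrongEmb.mem_of_conj (CAGroup.se h) (Subgroup.le_normalizer hs) hso (Subgroup.le_normalizer ?_)
      show c * s * c⁻¹ ∈ (T : Subgroup G)
      rw [← hCs]
      exact mem_centralizer_singleton_iff.mpr
        (hone _ (mul_mem (mul_mem hc hsH) (inv_mem hc)) (by rw [orderOf_conj, hso]))
    obtain ⟨x, hxH, hxT⟩ : ∃ x ∈ H, x ∉ T := by
      by_contra hc
      push Not at hc
      exact hnc fun a ha b hb => CAGroup.comm_of_mem h (hc a ha) (hc b hb)
    obtain ⟨d, hd, t, ht, rfl⟩ := CAGroup.decomp h hu huH (hHN hxH)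
    have hd1 : d ≠ 1 := fun e => hxT (by rw [e, one_mul]; exact ht)
    -- the conjugates of `s`
    have hconj : ∀ a : G, a ∈ T → (d * t) * a * (d * t)⁻¹ = d * a * d⁻¹ := fun a ha => by
      calc (d * t) * a * (d * t)⁻¹ = d * (t * a * t⁻¹) * d⁻¹ := by group
        _ = _ := by rw [CAGroup.comm_of_mem h ht ha, mul_inv_cancel_right]
    have horb : ∀ i : ℕ, d ^ i * s * (d ^ i)⁻¹ ∈ H ∧ d ^ i * s * (d ^ i)⁻¹ ∈ T := by
      intro i
      induction i with
      | zero => simpa using ⟨hsH, hs⟩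
      | succ i ih =>
        have e : d ^ (i + 1) * s * (d ^ (i + 1))⁻¹ = d * (d ^ i * s * (d ^ i)⁻¹) * d⁻¹ := by rw [pow_succ']; group
        rw [e]
        refine ⟨?_, (Subgroup.mem_normalizer_iff.mp hd.1 _).mp ih.2⟩
        rw [← hconj _ ih.2]
        exact mul_mem (mul_mem hxH ih.1) (inv_mem hxH)
    have hdc : Nat.card ↥(CAGroup.Dn T u) = Nat.card T - 1 := by
      have := CAGroup.card_D h hu huH
      omega
    have hdo : orderOf d = Nat.card T - 1 := by
      have h1 := Subgroup.orderOf_dvd_natCard (CAGroup.Dn T u) hd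
      rw [hdc] at h1
      exact (hp.eq_one_or_self_of_dvd _ h1).resolve_left (by simpa using hd1)
    have hTH : (T : Subgroup G) ≤ H := by
      let f : Fin (Nat.card T - 1) → {c : ↥(T : Subgroup G) // c ≠ 1} := fun i =>
        ⟨⟨d ^ (i : ℕ) * s * (d ^ (i : ℕ))⁻¹, (horb i).2⟩, fun e => by
          have e' : d ^ (i : ℕ) * s * (d ^ (i : ℕ))⁻¹ = 1 := congrArg Subtype.val e
          rw [conj_eq_one_iff] at e'
          rw [e', orderOf_one] at hso
          omega⟩
      have hf : Function.Bijective f := by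
        refine (Nat.bijective_iff_injective_and_card f).mpr ⟨fun i j e => ?_, ?_⟩
        · have e' : d ^ (i : ℕ) * s * (d ^ (i : ℕ))⁻¹ = d ^ (j : ℕ) * s * (d ^ (j : ℕ))⁻¹ :=
            congrArg (fun c : {c : ↥(T : Subgroup G) // c ≠ 1} => ((c : ↥(T : Subgroup G)) : G)) e
          have h1 : (d ^ (i : ℕ))⁻¹ * d ^ (j : ℕ) = 1 := by
            refine CAGroup.eq_one_of_odd h hso ?_ ((CAGroup.D_odd h huH).of_dvd_nat
              (Subgroup.orderOf_dvd_natCard _ (mul_mem (inv_mem (pow_mem hd _)) (pow_mem hd _))))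
            calc (d ^ (i : ℕ))⁻¹ * d ^ (j : ℕ) * s
                = (d ^ (i : ℕ))⁻¹ * (d ^ (j : ℕ) * s * (d ^ (j : ℕ))⁻¹) * d ^ (j : ℕ) := by group
              _ = (d ^ (i : ℕ))⁻¹ * (d ^ (i : ℕ) * s * (d ^ (i : ℕ))⁻¹) * d ^ (j : ℕ) := by rw [e']
              _ = _ := by group
          exact Fin.ext (pow_injOn_Iio_orderOf (by simp [hdo]) (by simp [hdo]) (inv_mul_eq_one.mp h1))
        · haveI := Fintype.ofFinite ↥(T : Subgroup G)
          rw [Nat.card_fin, Nat.card_eq_fintype_card (α := {c : ↥(T : Subgroup G) // c ≠ 1}),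
            Fintype.card_subtype_compl, Fintype.card_subtype_eq, ← Nat.card_eq_fintype_card]
      intro c hc
      by_cases hc1 : c = 1
      · exact hc1 ▸ one_mem _
      obtain ⟨i, hi⟩ := hf.2 ⟨⟨c, hc⟩, fun e => hc1 (congrArg Subtype.val e)⟩
      have : d ^ (i : ℕ) * s * (d ^ (i : ℕ))⁻¹ = c :=
        congrArg (fun c : {c : ↥(T : Subgroup G) // c ≠ 1} => ((c : ↥(T : Subgroup G)) : G)) hi
      exact this ▸ (horb i).1
    have hHeq : H = normalizer ((T : Subgroup G) : Set G) := by
      refine Subgroup.eq_of_le_of_card_ge hHN ?_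
      have hdH : d ∈ H := by
        rw [show d = d * t * t⁻¹ by group]
        exact mul_mem hxH (inv_mem (hTH ht))
      have h1 : Nat.card T - 1 ∣ Nat.card H := hdo ▸ Subgroup.orderOf_dvd_natCard H hdH
      have h2 : Nat.card T ∣ Nat.card H := Subgroup.card_dvd_of_le hTH
      have hco : (Nat.card T).Coprime (Nat.card T - 1) := by
        obtain ⟨n, hn⟩ : ∃ n, Nat.card T = n + 1 := ⟨Nat.card T - 1, by omega⟩
        rw [hn, Nat.add_sub_cancel]
        exact Nat.coprime_self_add_left.mpr (Nat.coprime_one_left _)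
      rw [hcardN]
      exact Nat.le_of_dvd Nat.card_pos (hco.mul_dvd_of_dvd_of_dvd h2 h1)
    have hks : k * s * k⁻¹ ∈ normalizer ((T : Subgroup G) : Set G) := hHeq ▸ hkconj s hsH
    rw [hHeq]
    exact StrongEmb.mem_of_conj (CAGroup.se h) (Subgroup.le_normalizer hs) hso hks
  push Not at hone
  obtain ⟨i, hiH, hio, his⟩ := hone
  obtain ⟨T₀, hsT₀⟩ := (IsPGroup.of_card (n := 1) (by rw [Nat.card_zpowers, Subgroup.orderOf_mk, hso, pow_one]) :
    IsPGroup 2 ↥(Subgroup.zpowers (⟨s, hsH⟩ : H))).exists_le_sylow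
  have hs₀ : (⟨s, hsH⟩ : H) ∈ T₀ := hsT₀ (Subgroup.mem_zpowers _)
  have hT₀T : (T₀ : Subgroup H).map H.subtype ≤ (T : Subgroup G) := by
    obtain ⟨S, hS⟩ := (T₀.2.map H.subtype).exists_le_sylow
    rintro c hc
    rw [← hCs]
    exact mem_centralizer_singleton_iff.mpr
      (CAGroup.comm_of_mem (hyp_of hT₁ S) (hS hc) (hS ⟨_, hs₀, rfl⟩))
  by_cases hcyc₀ : IsCyclic (T₀ : Subgroup H)
  · -- `H` is dihedral
    have h2H : 2 ∣ Nat.card H := (Nat.not_odd_iff_even.mp heven).two_dvd
    have hcomp := MonoidHom.ker_transferSylow_isComplement' T₀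
      (hcyc₀.normalizer_le_centralizer ((Nat.minFac_eq_two_iff _).mpr h2H))
    set Q := (MonoidHom.transferSylow T₀
      (hcyc₀.normalizer_le_centralizer ((Nat.minFac_eq_two_iff _).mpr h2H))).ker
    have hQn : Q.Normal := MonoidHom.normal_ker _
    haveI := hQn
    have hT₀2 : Nat.card ↥(T₀ : Subgroup H) = 2 := by
      obtain ⟨g, hg⟩ := hcyc₀.exists_ofOrder_eq_natCard
      have h1 : orderOf g ∣ 2 := orderOf_dvd_of_pow_eq_one (Subtype.ext (Subtype.ext (by
        push_cast
        rw [pow_two]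
        exact CAGroup.sq_eq_one h (hT₀T ⟨_, g.2, rfl⟩))))
      have h2 : 2 ∣ Nat.card ↥(T₀ : Subgroup H) := by
        have := Subgroup.orderOf_dvd_natCard (T₀ : Subgroup H) hs₀
        rwa [Subgroup.orderOf_mk, hso] at this
      rw [← hg]
      exact Nat.dvd_antisymm h1 (hg.symm ▸ h2)
    have hQodd : Odd (Nat.card Q) := by
      rw [← Nat.not_even_iff_odd]
      intro he
      have h1 := hcomp.card_mul_card
      refine T₀.not_dvd_index ?_
      have h3 : (T₀ : Subgroup H).index = Nat.card Q :=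
        Nat.eq_of_mul_eq_mul_left (Nat.card_pos (α := ↥(T₀ : Subgroup H)))
          ((T₀ : Subgroup H).card_mul_index.trans (by rw [← h1, mul_comm]))
      rw [h3]
      exact he.two_dvd
    have hQmem : ∀ c : H, Odd (orderOf c) → c ∈ Q := fun c hc => by
      rw [← QuotientGroup.eq_one_iff, ← orderOf_eq_one_iff]
      refine Nat.eq_one_of_dvd_coprimes (Nat.coprime_two_right.mpr hc) (orderOf_map_dvd (QuotientGroup.mk' Q) c) ?_
      rw [← hT₀2, ← Subgroup.IsComplement'.index_eq_card hcomp.symm]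
      exact _root_.orderOf_dvd_natCard _
    have hQ' : Odd (Nat.card ↥(Q.map H.subtype)) := by rwa [Subgroup.card_map_of_injective H.subtype_injective]
    -- a conjugate of `k` commutes with `s`
    obtain ⟨c, hcH, hck⟩ : ∃ c ∈ H, c * s * c⁻¹ = k * s * k⁻¹ := by
      set ks : H := ⟨_, hkconj s hsH⟩ with hks
      obtain ⟨T', hT'⟩ := (IsPGroup.of_card (n := 1)
        (by rw [Nat.card_zpowers, hks, Subgroup.orderOf_mk, orderOf_conj, hso, pow_one]) :
        IsPGroup 2 ↥(Subgroup.zpowers ks)).exists_le_sylow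
      obtain ⟨g, hg⟩ := MulAction.exists_smul_eq H T₀ T'
      have hT'ks : ks ∈ T' := hT' (Subgroup.mem_zpowers _)
      rw [← hg, ← SetLike.mem_coe, ← Sylow.coe_coe, Sylow.coe_subgroup_smul] at hT'ks
      obtain ⟨a, ha, e⟩ := hT'ks
      have ha' : a = ⟨s, hsH⟩ := by
        have hone : ∀ y : ↥(T₀ : Subgroup H), y ≠ 1 → y = ⟨⟨s, hsH⟩, hs₀⟩ := by
          intro y hy
          haveI := Fintype.ofFinite ↥(T₀ : Subgroup H)
          by_contra hne
          have : 3 ≤ Fintype.card ↥(T₀ : Subgroup H) := by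
            have h3 : ({1, y, ⟨⟨s, hsH⟩, hs₀⟩} : Finset ↥(T₀ : Subgroup H)).card = 3 := by
              have hs1 : (⟨⟨s, hsH⟩, hs₀⟩ : ↥(T₀ : Subgroup H)) ≠ 1 := fun e' => by
                have h4 : s = 1 := congrArg (fun z : ↥(T₀ : Subgroup H) => ((z : H) : G)) e'
                rw [h4, orderOf_one] at hso
                omega
              rw [Finset.card_insert_of_notMem (by simp [Ne.symm hy, Ne.symm hs1]), Finset.card_pair hne]
            rw [← h3]
            exact Finset.card_le_univ _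
          rw [← Nat.card_eq_fintype_card, hT₀2] at this
          omega
        refine congrArg Subtype.val (hone ⟨a, ha⟩ fun e' => ?_)
        have e'' : a = 1 := congrArg Subtype.val e'
        have h5 : g * a * g⁻¹ = ks := e
        rw [e'', mul_one, mul_inv_cancel] at h5
        have : k * s * k⁻¹ = 1 := congrArg Subtype.val h5.symm
        rw [conj_eq_one_iff] at this
        rw [this, orderOf_one] at hso
        omega
      refine ⟨g, g.2, ?_⟩
      rw [ha'] at e
      exact congrArg Subtype.val e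
    have hk'T : c⁻¹ * k ∈ (T : Subgroup G) := by
      rw [← hCs]
      refine mem_centralizer_singleton_iff.mpr ?_
      calc c⁻¹ * k * s = c⁻¹ * (k * s * k⁻¹) * k := by group
        _ = c⁻¹ * (c * s * c⁻¹) * k := by rw [hck]
        _ = _ := by group
    suffices c⁻¹ * k ∈ H by
      rw [show k = c * (c⁻¹ * k) by group]
      exact mul_mem hcH this
    by_contra hk'
    obtain ⟨z, hzQ, hz1⟩ : ∃ z ∈ Q, z ≠ 1 := by
      refine Q.bot_or_exists_ne_one.resolve_left fun e => hnc fun a ha b hb => ?_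
      have h1 := hcomp.card_mul_card
      rw [e, Subgroup.card_bot, one_mul] at h1
      have hmem : ∀ y : H, y ∈ T₀ := fun y => by
        show y ∈ (T₀ : Subgroup H)
        rw [Subgroup.eq_top_of_card_eq _ h1]
        exact Subgroup.mem_top y
      exact CAGroup.comm_of_mem h (hT₀T ⟨_, hmem ⟨a, ha⟩, rfl⟩) (hT₀T ⟨_, hmem ⟨b, hb⟩, rfl⟩)
    have hk'2 : orderOf (c⁻¹ * k) = 2 := CAGroup.orderOf_of_mem h hk'T fun e => hk' (e ▸ one_mem _)
    have hks2 : orderOf (s * (c⁻¹ * k)) = 2 := CAGroup.orderOf_of_mem h (mul_mem hs hk'T) fun e => hk' (by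
      rw [show c⁻¹ * k = s⁻¹ * (s * (c⁻¹ * k)) by group, e, mul_one]
      exact inv_mem hsH)
    have hnormH : ∀ w : G, w ∈ normalizer (H : Set G) → orderOf w = 2 →
        w * (z : G) * w⁻¹ = (z : G)⁻¹ := by
      intro w hw hwo
      have hwQ : ∀ y ∈ Q.map H.subtype, w * y * w⁻¹ ∈ Q.map H.subtype := by
        rintro _ ⟨y, hy, rfl⟩
        refine ⟨⟨w * y * w⁻¹, (Subgroup.mem_normalizer_iff.mp hw y).mp y.2⟩, hQmem _ ?_, rfl⟩
        rw [Subgroup.orderOf_mk, orderOf_conj]
        exact hQ'.of_dvd_nat (Subgroup.orderOf_dvd_natCard _ ⟨y, hy, rfl⟩)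
      let f : ↥(Q.map H.subtype) → ↥(Q.map H.subtype) := fun y =>
        ⟨(y : G)⁻¹ * (w * y * w⁻¹), mul_mem (inv_mem y.2) (hwQ _ y.2)⟩
      have hinj : Function.Injective f := by
        intro x y e
        have e' : (x : G)⁻¹ * (w * x * w⁻¹) = (y : G)⁻¹ * (w * y * w⁻¹) := congrArg Subtype.val e
        refine Subtype.ext (mul_inv_eq_one.mp (CAGroup.eq_one_of_odd h hwo ?_
          (hQ'.of_dvd_nat (Subgroup.orderOf_dvd_natCard _ (mul_mem y.2 (inv_mem x.2)))))).symm
        calc (y : G) * (x : G)⁻¹ * w = y * ((x : G)⁻¹ * (w * x * w⁻¹)) * (w * (x : G)⁻¹) := by group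
          _ = y * ((y : G)⁻¹ * (w * y * w⁻¹)) * (w * (x : G)⁻¹) := by rw [e']
          _ = _ := by group
      obtain ⟨x, hx⟩ := Finite.injective_iff_surjective.mp hinj ⟨(z : G), z, hzQ, rfl⟩
      have hx' : (x : G)⁻¹ * (w * x * w⁻¹) = (z : G) := congrArg Subtype.val hx
      have hw' := inv_eq_self_of_orderOf hwo
      rw [← hx', hw', mul_inv_rev, inv_inv, mul_inv_rev, mul_inv_rev, hw',
        show w * ((x : G)⁻¹ * (w * x * w)) * w = w * (x : G)⁻¹ * w * x * (w * w) by group,
        mul_self_eq_one_of_orderOf hwo, mul_one]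
      group
    have hk'N : c⁻¹ * k ∈ normalizer (H : Set G) := mul_mem (inv_mem (Subgroup.le_normalizer hcH)) hk
    have e1 := hnormH _ (Subgroup.le_normalizer hsH) hso
    have e2 := hnormH _ hk'N hk'2
    have e3 := hnormH _ (mul_mem (Subgroup.le_normalizer hsH) hk'N) hks2
    have e4 : (z : G)⁻¹ = z := by
      calc (z : G)⁻¹ = s * (c⁻¹ * k) * z * (s * (c⁻¹ * k))⁻¹ := e3.symm
        _ = s * (c⁻¹ * k * z * (c⁻¹ * k)⁻¹) * s⁻¹ := by group
        _ = s * (z : G)⁻¹ * s⁻¹ := by rw [e2]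
        _ = (s * z * s⁻¹)⁻¹ := by group
        _ = z := by rw [e1, inv_inv]
    refine hz1 (Subtype.ext ?_)
    have hzodd : Odd (orderOf (z : G)) := hQ'.of_dvd_nat (Subgroup.orderOf_dvd_natCard _ ⟨z, hzQ, rfl⟩)
    by_contra hne
    rw [Involutions.orderOf_eq_two_iff'.mpr ⟨by nth_rewrite 1 [← e4]; exact inv_mul_cancel _, hne⟩] at hzodd
    exact absurd hzodd (by decide)
  · -- `H` is the whole group
    have hH₀ : CAGroup.Hyp T₀ := by
      refine ⟨hcyc₀, fun hn => his ?_, fun t ht => ⟨isMulCommutative_iff.mpr fun a ha b hb => ?_, fun c hc => ?_⟩⟩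
      · have hi₀ : (⟨i, hiH⟩ : H) ∈ T₀ := by
          obtain ⟨T', hT'⟩ := (IsPGroup.of_card (n := 1)
            (by rw [Nat.card_zpowers, Subgroup.orderOf_mk, hio, pow_one]) :
            IsPGroup 2 ↥(Subgroup.zpowers (⟨i, hiH⟩ : H))).exists_le_sylow
          haveI := Sylow.unique_of_normal T₀ hn
          rw [Subsingleton.elim T₀ T']
          exact hT' (Subgroup.mem_zpowers _)
        exact CAGroup.comm_of_mem h (hT₀T ⟨_, hi₀, rfl⟩) hs
      · exact Subtype.ext (CAEven.comm_in_centralizer hCT (z := (t : G))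
          (fun e => by rw [← Subgroup.orderOf_coe, e, orderOf_one] at ht; omega)
          (congrArg Subtype.val (mem_centralizer_singleton_iff.mp ha))
          (congrArg Subtype.val (mem_centralizer_singleton_iff.mp hb)))
      · refine Subtype.ext ?_
        push_cast
        exact (h.cent (t : G) (by rw [Subgroup.orderOf_coe, ht])).2 _
          (mem_centralizer_singleton_iff.mpr (congrArg Subtype.val (mem_centralizer_singleton_iff.mp hc)))
    obtain ⟨v, hv, hvH⟩ := CAGroup.exists_u hH₀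
    have hq₀ := CAGroup.card_T hH₀
    have hN₀ := CAGroup.card_H hH₀
    have hle : (normalizer ((T₀ : Subgroup H) : Set H)).map H.subtype ≤ normalizer ((T : Subgroup G) : Set G) := by
      rintro _ ⟨x, hx, rfl⟩
      refine StrongEmb.mem_of_conj (CAGroup.se h) (Subgroup.le_normalizer hs) hso (Subgroup.le_normalizer ?_)
      exact hT₀T ⟨_, (Subgroup.mem_normalizer_iff.mp hx _).mp hs₀, rfl⟩
    have hdvd := Subgroup.card_dvd_of_le hle
    rw [Subgroup.card_map_of_injective H.subtype_injective, hN₀, hcardN] at hdvd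
    obtain ⟨n, hn⟩ := IsPGroup.iff_card.mp T.2
    obtain ⟨m, hm⟩ := IsPGroup.iff_card.mp T₀.2
    have hm0 : m ≠ 0 := fun e => by rw [hm, e] at hq₀; omega
    have hqq : Nat.card T₀ = Nat.card T := by
      have hodd : (Nat.card T₀ - 1).Coprime (Nat.card T) := by
        rw [hn, hm]
        refine Nat.Coprime.pow_right n (Nat.coprime_two_right.mpr ?_)
        obtain ⟨j, hj⟩ : ∃ j, 2 ^ m = 2 * j := ⟨2 ^ (m - 1), by rw [← pow_succ', Nat.sub_add_cancel (by omega)]⟩
        have := Nat.one_le_two_pow (n := m)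
        exact ⟨j - 1, by omega⟩
      have h1 := hodd.dvd_of_dvd_mul_left ((dvd_mul_left _ _).trans hdvd)
      rcases hp.eq_one_or_self_of_dvd _ h1 with e | e <;> omega
    have hidx₀ := (CAGroup.centralizer_le_D hH₀ hv hvH).2
    have hidx := (CAGroup.centralizer_le_D h hu huH).2
    have hcard : Nat.card H = Nat.card G := by
      rw [← Subgroup.card_mul_index (normalizer ((T₀ : Subgroup H) : Set H)), hidx₀, hN₀, hqq,
        ← Subgroup.card_mul_index (normalizer ((T : Subgroup G) : Set G)), hidx, hcardN]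
    rw [Subgroup.eq_top_of_card_eq H hcard]
    exact Subgroup.mem_top k

end CfsgLib.SelfNormNA
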