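import Cfsg.Agent.Lib.SelfNormNA.Simple
import Cfsg.Agent.S1230
import Cfsg.Agent.S0262
import Cfsg.Agent.Lib.PrimeGraphExt

/-!
A non-solvable group in which every non-abelian subgroup is self-normalising is simple, with elementary
abelian involution centralisers.
-/

set_option autoImplicit false
set_option linter.unusedSectionVars false
set_option linter.style.haveILetI false

namespace CfsgLib.SelfNormNA

open Cfsg Subgroup

universe u

/-- The group is `SL(2, F)` in characteristic two. -/
theorem exists_sl2 {G : Type u} [Group G] [Finite G] {T : Sylow 2 G} (h : CAGroup.Hyp T) :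
    ∃ (F : Type) (_ : Field F) (_ : Fintype F) (_ : CharP F 2), Fintype.card F = Nat.card T ∧
      Nonempty (G ≃* Matrix.SpecialLinearGroup (Fin 2) F) := by
  haveI : Fact (Nat.Prime 2) := ⟨Nat.prime_two⟩
  obtain ⟨F, iF, iFt, hF, ⟨e⟩⟩ := Cfsg.Agent.S1230.result T h.nc h.nn h.cent
  have h4 := CAGroup.card_T h
  haveI hchar : CharP F 2 := by
    obtain ⟨p, hp⟩ := CharP.exists F
    haveI := hp
    obtain ⟨k, hpp, hk⟩ := FiniteField.card F p
    obtain ⟨n, hn⟩ := IsPGroup.iff_card.mp T.2
    rw [hF, hn] at hk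
    have hn0 : n ≠ 0 := fun e => by
      rw [hn, e] at h4
      omega
    have h2 : (2 : ℕ) ∣ p ^ (k : ℕ) := hk ▸ dvd_pow_self 2 hn0
    rw [(Nat.prime_dvd_prime_iff_eq Nat.prime_two hpp).mp (Nat.prime_two.dvd_of_dvd_pow h2)]
    exact hp
  exact ⟨F, iF, iFt, hchar, hF, ⟨e.trans CfsgLib.PrimeGraphExt.pslEquiv⟩⟩

theorem main_aux : ∀ (n : ℕ) (G : Type u) [Group G] [Finite G], Nat.card G = n → Prop' G → ¬ Group.IsSolvable G →
    IsSimpleGroup G ∧ ∃ T : Sylow 2 G, CAGroup.Hyp T := by
  intro n
  induction n using Nat.strong_induction_on with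
  | _ n ih =>
    intro G _ _ hn h hns
    haveI : Nontrivial G := not_subsingleton_iff_nontrivial.mp fun hs =>
      hns (Group.isSolvable_of_comm fun a b => Subsingleton.elim _ _)
    by_cases hs : IsSimpleGroup G
    · refine ⟨hs, exists_hyp h hns fun H hH => ?_⟩
      by_cases hHs : Group.IsSolvable H
      · exact Or.inl hHs
      have hlt : Nat.card H < n := by
        rw [← hn]
        exact lt_of_le_of_ne (Nat.le_of_dvd Nat.card_pos H.card_subgroup_dvd_card)
          fun e => hH (Subgroup.eq_top_of_card_eq H e)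
      exact Or.inr fun N hN => (ih _ hlt H rfl (subgroup h H) hHs).1.eq_bot_or_eq_top_of_normal N hN
    exfalso
    haveI : Fact (Nat.Prime 2) := ⟨Nat.prime_two⟩
    have hperf : commutator G = ⊤ := by
      by_contra hne
      exact hns (solvable_of_commutator_ne_top h hne)
    obtain ⟨N, hNn, hN0, hN1⟩ : ∃ N : Subgroup G, N.Normal ∧ N ≠ ⊥ ∧ N ≠ ⊤ := by
      by_contra hno
      push Not at hno
      exact hs ⟨fun N hN => or_iff_not_imp_left.mpr (hno N hN)⟩
    obtain ⟨A, ⟨hAn, hNA, hA1⟩, hAmax⟩ := (Set.toFinite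
      {A : Subgroup G | A.Normal ∧ N ≤ A ∧ A ≠ ⊤}).exists_maximal ⟨N, hNn, le_rfl, hN1⟩
    haveI := hAn
    have hA0 : A ≠ ⊥ := fun e => hN0 (le_bot_iff.mp (e ▸ hNA))
    have hAab := comm_of_normal h hAn hA1
    have hnsq : ¬ Group.IsSolvable (G ⧸ A) := by
      intro hq
      refine hns ?_
      haveI : Group.IsSolvable A := Group.isSolvable_of_comm fun a b => Subtype.ext (hAab a a.2 b b.2)
      refine Group.isSolvable_of_ker_le_range A.subtype (QuotientGroup.mk' A) ?_
        (hG' := inferInstance) (hG'' := hq)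
      rw [QuotientGroup.ker_mk', Subgroup.range_subtype]
    have hlt : Nat.card (G ⧸ A) < n := by
      rw [← hn, Subgroup.card_eq_card_quotient_mul_card_subgroup A]
      exact lt_mul_of_one_lt_right Nat.card_pos (A.one_lt_card_iff_ne_bot.mpr hA0)
    obtain ⟨-, T, hT⟩ := ih _ hlt (G ⧸ A) rfl (quot h A) hnsq
    set π := QuotientGroup.mk' A
    have hπ : Function.Surjective π := QuotientGroup.mk'_surjective A
    set W := (T : Subgroup (G ⧸ A)).comap π with hW
    have hWab : ∀ a ∈ W, ∀ b ∈ W, a * b = b * a := by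
      refine isMulCommutative_iff.mp ?_
      by_contra hc
      have h1 := h W hc
      rw [hW, ← Subgroup.comap_normalizer_eq_of_surjective _ hπ] at h1
      have h2 := Subgroup.comap_injective hπ h1
      have h3 := CAGroup.card_H hT
      rw [h2] at h3
      have h4 := CAGroup.card_T hT
      have h5 : Nat.card T - 1 = 1 :=
        (Nat.eq_of_mul_eq_mul_left Nat.card_pos (h3.symm.trans (mul_one _).symm))
      omega
    have hAW : A ≤ W := fun a ha => by
      show π a ∈ (T : Subgroup (G ⧸ A))
      rw [show π a = 1 from (QuotientGroup.eq_one_iff a).mpr ha]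
      exact one_mem _
    have hAc : A ≤ Subgroup.center G := by
      by_contra hnc
      have hCn : (Subgroup.centralizer (A : Set G)).Normal := ⟨fun c hc g => by
        refine Subgroup.mem_centralizer_iff.mpr fun a ha => ?_
        have h1 := Subgroup.mem_centralizer_iff.mp hc (g⁻¹ * a * g) (hAn.conj_mem' a ha g)
        calc a * (g * c * g⁻¹) = g * (g⁻¹ * a * g * c) * g⁻¹ := by group
          _ = g * (c * (g⁻¹ * a * g)) * g⁻¹ := by rw [h1]
          _ = g * c * g⁻¹ * a := by group⟩
      have hC1 : Subgroup.centralizer (A : Set G) ≠ ⊤ := fun e => hnc fun a ha => Subgroup.mem_center_iff.mpr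
        fun g => (Subgroup.mem_centralizer_iff.mp (e ▸ Subgroup.mem_top g) a ha).symm
      have hAC : A ≤ Subgroup.centralizer (A : Set G) := fun a ha =>
        Subgroup.mem_centralizer_iff.mpr fun b hb => hAab b hb a ha
      have hCA := hAmax ⟨hCn, hNA.trans hAC, hC1⟩ hAC
      have hWA : W ≤ A := fun w hw => hCA (Subgroup.mem_centralizer_iff.mpr fun a ha => hWab a (hAW ha) w hw)
      refine hT.nn ?_
      have hbot : (T : Subgroup (G ⧸ A)) = ⊥ := by
        refine (Subgroup.eq_bot_iff_forall _).mpr fun x hx => ?_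
        obtain ⟨w, rfl⟩ := hπ x
        exact (QuotientGroup.eq_one_iff w).mpr (hWA hx)
      rw [hbot]
      infer_instance
    obtain ⟨r, hr, hrd⟩ := Nat.exists_prime_and_dvd (show Nat.card A ≠ 1 from
      fun e => hA0 (Subgroup.card_eq_one.mp e))
    haveI : Fact r.Prime := ⟨hr⟩
    obtain ⟨⟨z, hz⟩, hzo⟩ := exists_prime_orderOf_dvd_card' (G := A) r hrd
    rw [Subgroup.orderOf_mk] at hzo
    have hzc : z ∈ commutator G := hperf ▸ Subgroup.mem_top z
    by_cases hr2 : r = 2
    · subst hr2
      obtain ⟨R, hR⟩ := Sylow.mapSurjective_surjective hπ 2 T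
      have hRW : (R : Subgroup G) ≤ W := by
        rw [hW, ← Subgroup.map_le_iff_le_comap, ← Sylow.coe_mapSurjective hπ, hR]
      exact transfer_false (hAc hz) hzc hzo R fun a ha b hb => hWab a (hRW ha) b (hRW hb)
    obtain ⟨F, iF, iFt, iC, -, ⟨e⟩⟩ := exists_sl2 hT
    obtain ⟨R⟩ := (inferInstance : Nonempty (Sylow r G))
    set φ : G →* Matrix.SpecialLinearGroup (Fin 2) F := e.toMonoidHom.comp π with hφ
    have hφs : Function.Surjective φ := e.surjective.comp hπ
    have hcyc := Cfsg.Agent.S0262.result 2 r hr2 hr2 (R.mapSurjective hφs)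
    let f : ↥(R : Subgroup G) →* ↥((R.mapSurjective hφs : Sylow r (Matrix.SpecialLinearGroup (Fin 2) F)) :
        Subgroup (Matrix.SpecialLinearGroup (Fin 2) F)) :=
      (φ.comp (R : Subgroup G).subtype).codRestrict _ fun x => ⟨x, x.2, rfl⟩
    have hfk : f.ker ≤ Subgroup.center ↥(R : Subgroup G) := fun x hx => Subgroup.mem_center_iff.mpr fun y => by
      have h1 : φ (x : G) = 1 := congrArg Subtype.val hx
      rw [hφ, MonoidHom.comp_apply, MulEquiv.coe_toMonoidHom, MulEquiv.map_eq_one_iff] at h1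
      exact Subtype.ext (Subgroup.mem_center_iff.mp (hAc ((QuotientGroup.eq_one_iff _).mp h1)) y)
    exact transfer_false (hAc hz) hzc hzo R fun a ha b hb => congrArg Subtype.val
      (commutative_of_cyclic_center_quotient f hfk ⟨a, ha⟩ ⟨b, hb⟩)

end CfsgLib.SelfNormNA
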