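import Cfsg.Agent.Lib.SelfNormNA.Basic
import Cfsg.Agent.Lib.Solvable.CNTheorem
import Cfsg.Agent.Lib.AbInvCent.Main
import Cfsg.Prelude.Def_LieExceptional

/-!
The simple groups in which every non-abelian subgroup is self-normalising.
-/

set_option autoImplicit false
set_option linter.unusedSectionVars false
set_option linter.style.haveILetI false

namespace CfsgLib.SelfNormNA

open Cfsg Subgroup

universe u

variable {G : Type u} [Group G] [Finite G] [IsSimpleGroup G]

/-- The proper subgroups are solvable or simple. -/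
def SubOK (G : Type u) [Group G] : Prop :=
  ∀ H : Subgroup G, H ≠ ⊤ → Group.IsSolvable H ∨ ∀ N : Subgroup H, N.Normal → N = ⊥ ∨ N = ⊤

theorem not_comm (hns : ¬ Group.IsSolvable G) : ¬ ∀ a b : G, a * b = b * a :=
  fun h => hns (Group.isSolvable_of_comm h)

theorem centralizer_ne_top (hns : ¬ Group.IsSolvable G) {x : G} (hx : x ≠ 1) :
    centralizer ({x} : Set G) ≠ ⊤ := by
  intro e
  have hmem : x ∈ Subgroup.center G := Subgroup.mem_center_iff.mpr fun g =>
    mem_centralizer_singleton_iff.mp (e ▸ Subgroup.mem_top g)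
  rcases (inferInstance : (Subgroup.center G).Normal).eq_bot_or_eq_top with h | h
  · exact hx (Subgroup.mem_bot.mp (h ▸ hmem))
  · exact not_comm hns fun a b => (Subgroup.mem_center_iff.mp (h ▸ Subgroup.mem_top a) b).symm

theorem solvable_local (hsub : SubOK G) {H : Subgroup G} (hH : H ≠ ⊤) {N : Subgroup H} (hN : N.Normal)
    (h0 : N ≠ ⊥) (hab : ∀ a ∈ N, ∀ b ∈ N, a * b = b * a) : Group.IsSolvable H := by
  rcases hsub H hH with h | h
  · exact h
  rcases h N hN with e | e
  · exact absurd e h0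
  · exact Group.isSolvable_of_comm fun a b => hab a (e ▸ Subgroup.mem_top a) b (e ▸ Subgroup.mem_top b)

theorem no_complement (hns : ¬ Group.IsSolvable G) {p : ℕ} [Fact p.Prime] (hp : p ∣ Nat.card G)
    (h : HasNormalPComplement p G) : False := by
  obtain ⟨P, N, hN, hc⟩ := h
  have hcard := hc.card_mul_card
  rcases hN.eq_bot_or_eq_top with e | e
  · rw [e, Subgroup.card_bot, one_mul] at hcard
    have hP : IsPGroup p G := by
      intro g
      obtain ⟨k, hk⟩ := P.2 ⟨g, by rw [Subgroup.eq_top_of_card_eq _ hcard]; exact Subgroup.mem_top g⟩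
      exact ⟨k, congrArg Subtype.val hk⟩
    haveI := hP.isNilpotent
    exact hns inferInstance
  · rw [e, Subgroup.card_top] at hcard
    have h1 : Nat.card ↥(P : Subgroup G) = 1 :=
      Nat.eq_of_mul_eq_mul_left Nat.card_pos (hcard.trans (mul_one _).symm)
    have := P.not_dvd_index
    rw [Subgroup.eq_bot_of_card_eq _ h1, Subgroup.index_bot] at this
    exact this hp

/-- The centraliser of an element of prime order is abelian or of prime power order. -/
theorem centralizer_prime (h : Prop' G) (hns : ¬ Group.IsSolvable G) (hsub : SubOK G) {x : G} {r : ℕ}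
    (hr : r.Prime) (hx : orderOf x = r) :
    (∀ a ∈ centralizer ({x} : Set G), ∀ b ∈ centralizer ({x} : Set G), a * b = b * a) ∨
      ∃ p : ℕ, p.Prime ∧ IsPGroup p ↥(centralizer ({x} : Set G)) := by
  have hx1 : x ≠ 1 := fun e => hr.ne_one (by rw [← hx, e, orderOf_one])
  set H := centralizer ({x} : Set G) with hH
  by_cases hab : ∀ a ∈ H, ∀ b ∈ H, a * b = b * a
  · exact Or.inl hab
  refine Or.inr ?_
  have hxH : x ∈ H := mem_centralizer_singleton_iff.mpr rfl
  have hxc : (⟨x, hxH⟩ : H) ∈ Subgroup.center H := Subgroup.mem_center_iff.mpr fun g =>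
    Subtype.ext (mem_centralizer_singleton_iff.mp g.2)
  haveI : Group.IsSolvable H := solvable_local hsub (centralizer_ne_top hns hx1) (N := Subgroup.center H)
    inferInstance (fun e => by
      rw [e, Subgroup.mem_bot] at hxc
      exact hx1 (congrArg Subtype.val hxc))
    (fun a _ b hb => Subgroup.mem_center_iff.mp hb a)
  rcases solvable_cases (subgroup h H) (fun hc => hab fun a ha b hb => congrArg Subtype.val (hc ⟨a, ha⟩ ⟨b, hb⟩)) with
    hp | ⟨q, M, hq, hMn, hidx, hMab, hall⟩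
  · exact hp
  haveI : Fact q.Prime := ⟨hq⟩
  by_contra hno
  have hqG : ¬ IsPGroup q H := fun hp => hno ⟨q, hq, hp⟩
  obtain ⟨R⟩ := (inferInstance : Nonempty (Sylow q H))
  obtain ⟨hcyc, hNC, hord⟩ := caseB hMn hidx hMab hall hqG R
  have hrq : r = q := hord _ hxc r hr (by rw [Subgroup.orderOf_mk, hx])
  subst hrq
  have hxR : (⟨x, hxH⟩ : H) ∈ R := by
    haveI : (Subgroup.zpowers (⟨x, hxH⟩ : H)).Normal := ⟨fun y hy g => by
      rwa [Subgroup.mem_center_iff.mp (Subgroup.zpowers_le.mpr hxc hy) g, mul_inv_cancel_right]⟩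
    have h2 : IsPGroup r ↥(Subgroup.zpowers (⟨x, hxH⟩ : H) ⊔ (R : Subgroup H)) :=
      (IsPGroup.of_card (n := 1) (by rw [Nat.card_zpowers, Subgroup.orderOf_mk, hx, pow_one]) :
        IsPGroup r ↥(Subgroup.zpowers (⟨x, hxH⟩ : H))).to_sup_of_normal_left R.2
    exact le_sup_left.trans (R.3 h2 le_sup_right).le (Subgroup.mem_zpowers _)
  set RG := (R : Subgroup H).map H.subtype with hRG
  have hRH : RG ≤ H := Subgroup.map_subtype_le _
  haveI : IsCyclic RG := ((R : Subgroup H).equivMapOfInjective H.subtype H.subtype_injective).isCyclic.mp hcyc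
  have hN : normalizer (RG : Set G) ≤ H := by
    intro g hg
    have hxRG : x ∈ RG := ⟨_, hxR, rfl⟩
    have hgx := (Subgroup.mem_normalizer_iff.mp hg x).mp hxRG
    have hz : Subgroup.zpowers (g * x * g⁻¹) = Subgroup.zpowers x := by
      have hconj : orderOf (g * x * g⁻¹) = orderOf x := MulEquiv.orderOf_eq (MulAut.conj g) x
      refine Subgroup.eq_of_le_of_card_ge ?_ (by rw [Nat.card_zpowers, Nat.card_zpowers, hconj])
      classical
      haveI := Fintype.ofFinite RG
      let A : Finset RG := Finset.univ.filter fun c => c ^ r = 1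
      let B : Finset RG := Finset.univ.filter fun c => (c : G) ∈ Subgroup.zpowers x
      have hBA : B = A := by
        refine Finset.eq_of_subset_of_card_le (fun c hc => ?_) ?_
        · simp only [B, A, Finset.mem_filter, Finset.mem_univ, true_and] at hc ⊢
          obtain ⟨k, hk⟩ := hc
          refine Subtype.ext ?_
          push_cast
          rw [← hk, ← zpow_natCast, ← zpow_mul, mul_comm, zpow_mul, zpow_natCast, ← hx, pow_orderOf_eq_one,
            one_zpow]
        · refine (IsCyclic.card_pow_eq_one_le hr.pos).trans (le_of_eq ?_)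
          rw [← hx, ← Nat.card_zpowers, ← Nat.card_congr (Subgroup.subgroupOfEquivOfLe (Subgroup.zpowers_le.mpr hxRG)).toEquiv,
            Nat.card_eq_fintype_card, Fintype.card_subtype]
          rfl
      refine Subgroup.zpowers_le.mpr ?_
      have hmem : (⟨g * x * g⁻¹, hgx⟩ : RG) ∈ A := by
        simp only [A, Finset.mem_filter, Finset.mem_univ, true_and]
        refine Subtype.ext ?_
        show (g * x * g⁻¹) ^ r = 1
        rw [← hx, ← hconj, pow_orderOf_eq_one]
      rw [← hBA] at hmem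
      simpa [B] using hmem
    have hconjH : ∀ c ∈ H, g * c * g⁻¹ ∈ H := fun c hc => by
      have h1 : g * c * g⁻¹ * (g * x * g⁻¹) = g * x * g⁻¹ * (g * c * g⁻¹) := by
        calc g * c * g⁻¹ * (g * x * g⁻¹) = g * (c * x) * g⁻¹ := by group
          _ = g * (x * c) * g⁻¹ := by rw [mem_centralizer_singleton_iff.mp hc]
          _ = _ := by group
      obtain ⟨k, hk⟩ := Subgroup.mem_zpowers_iff.mp (hz ▸ Subgroup.mem_zpowers x : x ∈ Subgroup.zpowers (g * x * g⁻¹))
      refine mem_centralizer_singleton_iff.mpr ?_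
      rw [← hk]
      exact ((show Commute (g * c * g⁻¹) (g * x * g⁻¹) from h1).zpow_right k).eq
    have hmap : H.map (MulAut.conj g).toMonoidHom = H :=
      Subgroup.eq_of_le_of_card_ge (by rintro _ ⟨c, hc, rfl⟩; exact hconjH c hc)
        (le_of_eq (Subgroup.card_map_of_injective (f := (MulAut.conj g).toMonoidHom) (MulAut.conj g).injective).symm)
    have hgN : g ∈ normalizer (H : Set G) := by
      refine Subgroup.mem_normalizer_iff.mpr fun c => ⟨hconjH c, fun hc => ?_⟩
      rw [← hmap] at hc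
      obtain ⟨d, hd, e⟩ := hc
      exact (MulAut.conj g).injective e ▸ hd
    rwa [h H (fun hc => hab (isMulCommutative_iff.mp hc))] at hgN
  obtain ⟨S, hS⟩ := (R.2.map H.subtype).exists_le_sylow
  have hRS : RG = (S : Subgroup G) := by
    by_contra hne
    haveI := S.2.isNilpotent
    have hlt : RG.subgroupOf (S : Subgroup G) < ⊤ :=
      lt_top_iff_ne_top.mpr fun e => hne (le_antisymm hS (Subgroup.subgroupOf_eq_top.mp e))
    obtain ⟨s, hs, hs'⟩ := SetLike.exists_of_lt (Group.normalizerCondition_of_isNilpotent _ hlt)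
    have hsN : (s : G) ∈ normalizer (RG : Set G) := by
      refine Subgroup.mem_normalizer_iff.mpr fun c => ⟨fun hc => ?_, fun hc => ?_⟩
      · exact (Subgroup.mem_normalizer_iff.mp hs ⟨c, hS hc⟩).mp hc
      · have hcS : c ∈ (S : Subgroup G) := by
          have := mul_mem (mul_mem (inv_mem s.2) (hS hc)) s.2
          rwa [show (s : G)⁻¹ * ((s : G) * c * (s : G)⁻¹) * s = c by group] at this
        exact (Subgroup.mem_normalizer_iff.mp hs ⟨c, hcS⟩).mpr hc
    have hsH := hN hsN
    have hp : IsPGroup r ↥((S : Subgroup G).subgroupOf H) := S.2.comap_subtype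
    have hle : (R : Subgroup H) ≤ (S : Subgroup G).subgroupOf H := fun c hc => hS ⟨c, hc, rfl⟩
    have hsR : (⟨(s : G), hsH⟩ : H) ∈ R := (R.3 hp hle).le (Subgroup.mem_subgroupOf.mpr s.2)
    exact hs' ⟨_, hsR, rfl⟩
  refine no_complement hns (p := r) (hx ▸ _root_.orderOf_dvd_natCard x) ?_
  refine hasNormalPComplement_of_normalizer_le_centralizer S ?_
  intro g hg
  rw [← hRS] at hg
  have hgH := hN hg
  have hgR : (⟨g, hgH⟩ : H) ∈ normalizer ((R : Subgroup H) : Set H) := by
    refine Subgroup.mem_normalizer_iff.mpr fun c => ⟨fun hc => ?_, fun hc => ?_⟩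
    · obtain ⟨d, hd, e⟩ := (Subgroup.mem_normalizer_iff.mp hg c).mp ⟨c, hc, rfl⟩
      exact (Subtype.ext e : d = ⟨g, hgH⟩ * c * (⟨g, hgH⟩ : H)⁻¹) ▸ hd
    · obtain ⟨d, hd, e⟩ := (Subgroup.mem_normalizer_iff.mp hg c).mpr ⟨_, hc, rfl⟩
      exact (Subtype.ext e : d = c) ▸ hd
  refine Subgroup.mem_centralizer_iff.mpr fun c hc => ?_
  rw [← hRS] at hc
  obtain ⟨d, hd, rfl⟩ := hc
  exact congrArg Subtype.val (Subgroup.mem_centralizer_iff.mp (hNC hgR) d hd)

/-- Centralisers of nontrivial elements are abelian or of prime power order. -/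
theorem centralizer_cases (h : Prop' G) (hns : ¬ Group.IsSolvable G) (hsub : SubOK G) {x : G} (hx : x ≠ 1) :
    (∀ a ∈ centralizer ({x} : Set G), ∀ b ∈ centralizer ({x} : Set G), a * b = b * a) ∨
      ∃ p : ℕ, p.Prime ∧ IsPGroup p ↥(centralizer ({x} : Set G)) := by
  obtain ⟨r, hr, hrd⟩ := Nat.exists_prime_and_dvd (show orderOf x ≠ 1 by simpa using hx)
  have ho : orderOf (x ^ (orderOf x / r)) = r := orderOf_pow_orderOf_div (orderOf_pos x).ne' hrd
  have hle : centralizer ({x} : Set G) ≤ centralizer ({x ^ (orderOf x / r)} : Set G) := fun c hc =>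
    mem_centralizer_singleton_iff.mpr ((show Commute c x from mem_centralizer_singleton_iff.mp hc).pow_right _).eq
  rcases centralizer_prime h hns hsub hr ho with hc | ⟨p, hp, hpg⟩
  · exact Or.inl fun a ha b hb => hc a (hle ha) b (hle hb)
  · exact Or.inr ⟨p, hp, hpg.to_le hle⟩

theorem even_card (h : Prop' G) (hns : ¬ Group.IsSolvable G) (hsub : SubOK G) : Even (Nat.card G) := by
  rw [← Nat.not_odd_iff_even]
  intro hodd
  refine hns (CfsgLib.CN.isSolvable_of_odd_cn (Nat.card G) hodd (fun x hx => ?_) rfl)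
  rcases centralizer_cases h hns hsub hx with hc | ⟨p, hp, hpg⟩
  · letI : CommGroup (centralizer ({x} : Set G)) :=
      { (inferInstance : Group (centralizer ({x} : Set G))) with
        mul_comm := fun a b => Subtype.ext (hc a a.2 b b.2) }
    exact CommGroup.isNilpotent
  · haveI : Fact p.Prime := ⟨hp⟩
    exact hpg.isNilpotent

/-- The Sylow 2-subgroups are abelian. -/
theorem sylow_two_comm (h : Prop' G) (hns : ¬ Group.IsSolvable G) (hsub : SubOK G) (S : Sylow 2 G) :
    ∀ a ∈ S, ∀ b ∈ S, a * b = b * a := by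
  haveI : Fact (Nat.Prime 2) := ⟨Nat.prime_two⟩
  have h2G := (even_card h hns hsub).two_dvd
  let P : Subgroup G → Prop := fun R => IsPGroup 2 R ∧
    ∃ y ∈ normalizer (R : Set G), Odd (orderOf y) ∧ y ∉ centralizer (R : Set G)
  obtain ⟨R, ⟨hR2, y, hyN, hyo, hyC⟩, hmax⟩ : ∃ R, P R ∧ ∀ R', P R' → Nat.card R' ≤ Nat.card R := by
    have hne : ({R : Subgroup G | P R}).Nonempty := by
      by_contra hc
      refine no_complement hns h2G (hasNormalPComplement_of_frobeniusCond fun Q hQ g hg hgo => ?_)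
      by_contra hgC
      exact hc ⟨Q, hQ, g, hg, Nat.coprime_two_right.mp hgo, hgC⟩
    obtain ⟨R, hR, hmax⟩ := Set.exists_max_image {R : Subgroup G | P R} (fun R => Nat.card R) (Set.toFinite _) hne
    exact ⟨R, hR, fun R' h' => hmax R' h'⟩
  set E := normalizer (R : Set G) with hE
  have hR0 : R ≠ ⊥ := fun e => hyC (by
    rw [e]
    exact Subgroup.mem_centralizer_iff.mpr fun c hc => by rw [Subgroup.mem_bot.mp hc, one_mul, mul_one])
  have hyR : y ∉ R := fun hm => by
    obtain ⟨k, hk⟩ := IsPGroup.iff_orderOf.mp hR2 ⟨y, hm⟩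
    rw [Subgroup.orderOf_mk] at hk
    rcases k with _ | k
    · exact hyC (by rw [show y = 1 from orderOf_eq_one_iff.mp (by rw [hk, pow_zero])]; exact one_mem _)
    · rw [hk, pow_succ] at hyo
      exact absurd (Nat.odd_mul.mp hyo).2 (by decide)
  have hEne : E ≠ ⊤ := fun e => by
    rcases (Subgroup.normalizer_eq_top_iff.mp e).eq_bot_or_eq_top with e' | e'
    · exact hR0 e'
    · exact hyR (e' ▸ Subgroup.mem_top y)
  have hRE : R ≤ E := Subgroup.le_normalizer
  haveI hRn : (R.subgroupOf E).Normal := Subgroup.normal_in_normalizer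
  have hREne : R.subgroupOf E ≠ ⊤ := fun e => hyR (Subgroup.subgroupOf_eq_top.mp e hyN)
  have hRab : ∀ a ∈ R.subgroupOf E, ∀ b ∈ R.subgroupOf E, a * b = b * a :=
    comm_of_normal (subgroup h E) hRn hREne
  haveI : Group.IsSolvable E := solvable_local hsub hEne hRn
    (fun e => hR0 (le_bot_iff.mp fun c hc => by
      have : (⟨c, hRE hc⟩ : E) ∈ R.subgroupOf E := hc
      rw [e, Subgroup.mem_bot] at this
      exact congrArg Subtype.val this)) hRab
  have hEnc : ¬ ∀ a b : E, a * b = b * a := fun hc => hyC (Subgroup.mem_centralizer_iff.mpr fun c hc' =>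
    congrArg Subtype.val (hc ⟨c, hRE hc'⟩ ⟨y, hyN⟩))
  have hto2 : ∀ g : G, ∀ k : ℕ, orderOf g = 2 ^ k → Odd (orderOf g) → g = 1 := fun g k hk ho => by
    rcases k with _ | k
    · exact orderOf_eq_one_iff.mp (by rw [hk, pow_zero])
    · rw [hk, pow_succ] at ho
      exact absurd (Nat.odd_mul.mp ho).2 (by decide)
  -- all 2-elements of the normaliser lie in an abelian normal subgroup
  obtain ⟨M, hMn, hMab, hRM, h2M⟩ : ∃ M : Subgroup E, M.Normal ∧ (∀ a ∈ M, ∀ b ∈ M, a * b = b * a) ∧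
      R.subgroupOf E ≤ M ∧ ∀ g : E, (∃ k, orderOf g = 2 ^ k) → g ∈ M := by
    rcases solvable_cases (subgroup h E) hEnc with ⟨p, hp, hpg⟩ | ⟨q, M, hq, hMn, hidx, hMab, hall⟩
    · exfalso
      haveI : Fact p.Prime := ⟨hp⟩
      obtain ⟨c, hc, hc1⟩ := R.bot_or_exists_ne_one.resolve_left hR0
      obtain ⟨i, hi⟩ := IsPGroup.iff_orderOf.mp hpg ⟨c, hRE hc⟩
      obtain ⟨j, hj⟩ := IsPGroup.iff_orderOf.mp hR2 ⟨c, hc⟩
      obtain ⟨l, hl⟩ := IsPGroup.iff_orderOf.mp hpg ⟨y, hyN⟩
      rw [Subgroup.orderOf_mk] at hi hj hl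
      have hc1' : orderOf c ≠ 1 := fun e => hc1 (orderOf_eq_one_iff.mp e)
      have hj0 : j ≠ 0 := fun e => hc1' (by rw [hj, e, pow_zero])
      have hp2 : p = 2 := by
        have h2 : 2 ∣ p ^ i := by rw [← hi, hj]; exact dvd_pow_self 2 hj0
        exact ((Nat.prime_dvd_prime_iff_eq Nat.prime_two hp).mp (Nat.prime_two.dvd_of_dvd_pow h2)).symm
      rw [hp2] at hl
      exact hyC (by rw [hto2 y l hl hyo]; exact one_mem _)
    · have hRM := hall _ hRn hREne
      refine ⟨M, hMn, hMab, hRM, ?_⟩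
      haveI : Fact q.Prime := ⟨hq⟩
      haveI := hMn
      have hyM : (⟨y, hyN⟩ : E) ∉ M := fun hm => hyC (Subgroup.mem_centralizer_iff.mpr fun c hc =>
        congrArg Subtype.val (hMab ⟨c, hRE hc⟩ (hRM hc) ⟨y, hyN⟩ hm))
      have hq2 : q ≠ 2 := fun e => by
        refine hyM ((QuotientGroup.eq_one_iff _).mp (orderOf_eq_one_iff.mp ?_))
        refine Nat.eq_one_of_dvd_coprimes (Nat.coprime_two_right.mpr hyo) ?_ (e ▸ hidx ▸ _root_.orderOf_dvd_natCard _)
        rw [← Subgroup.orderOf_mk (H := E) y hyN]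
        exact orderOf_map_dvd (QuotientGroup.mk' M) _
      rintro g ⟨k, hk⟩
      rw [← QuotientGroup.eq_one_iff, ← orderOf_eq_one_iff]
      exact Nat.eq_one_of_dvd_coprimes (Nat.Coprime.pow_left k ((Nat.coprime_primes Nat.prime_two hq).mpr hq2.symm))
        (hk ▸ orderOf_map_dvd (QuotientGroup.mk' M) g) (hidx ▸ _root_.orderOf_dvd_natCard _)
  -- the 2-elements form a subgroup of the same kind
  let W : Subgroup G :=
    { carrier := {g | ∃ hg : g ∈ E, (⟨g, hg⟩ : E) ∈ M ∧ ∃ k, orderOf g = 2 ^ k}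
      one_mem' := ⟨one_mem _, one_mem _, 0, by simp⟩
      mul_mem' := fun {a b} ⟨ha, haM, i, hi⟩ ⟨hb, hbM, j, hj⟩ => by
        refine ⟨mul_mem ha hb, mul_mem haM hbM, ?_⟩
        have hc : Commute a b := congrArg Subtype.val (hMab _ haM _ hbM)
        have hd := hc.orderOf_mul_dvd_lcm.trans (Nat.lcm_dvd_mul _ _)
        rw [hi, hj, ← pow_add] at hd
        obtain ⟨k, -, hk⟩ := (Nat.dvd_prime_pow Nat.prime_two).mp hd
        exact ⟨k, hk⟩
      inv_mem' := fun {a} ⟨ha, haM, i, hi⟩ => ⟨inv_mem ha, inv_mem haM, i, by rw [orderOf_inv, hi]⟩ }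
  have hRW : R ≤ W := fun c hc => by
    obtain ⟨j, hj⟩ := IsPGroup.iff_orderOf.mp hR2 ⟨c, hc⟩
    rw [Subgroup.orderOf_mk] at hj
    exact ⟨hRE hc, hRM hc, j, hj⟩
  have hW2 : IsPGroup 2 W := by
    refine IsPGroup.iff_orderOf.mpr ?_
    rintro ⟨g, -, -, k, hk⟩
    exact ⟨k, by rw [← Subgroup.orderOf_coe]; exact hk⟩
  have hWconj : ∀ g ∈ E, ∀ c ∈ W, g * c * g⁻¹ ∈ W := by
    rintro g hg c ⟨hc, hcM, k, hk⟩
    exact ⟨mul_mem (mul_mem hg hc) (inv_mem hg), hMn.conj_mem _ hcM ⟨g, hg⟩, k,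
      (MulEquiv.orderOf_eq (MulAut.conj g) c).trans hk⟩
  have hyW : y ∈ normalizer (W : Set G) := by
    refine Subgroup.mem_normalizer_iff.mpr fun c => ⟨hWconj y hyN c, fun hc => ?_⟩
    have := hWconj y⁻¹ (inv_mem hyN) _ hc
    rwa [show y⁻¹ * (y * c * y⁻¹) * y⁻¹⁻¹ = c by group] at this
  have hWR : W = R :=
    (Subgroup.eq_of_le_of_card_ge hRW (hmax W ⟨hW2, y, hyW, hyo, fun hc => hyC (Subgroup.centralizer_le hRW hc)⟩)).symm
  -- so it is a Sylow subgroup
  obtain ⟨S', hS'⟩ := hR2.exists_le_sylow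
  have hRS : R = (S' : Subgroup G) := by
    by_contra hne
    haveI := S'.2.isNilpotent
    have hlt : R.subgroupOf (S' : Subgroup G) < ⊤ :=
      lt_top_iff_ne_top.mpr fun e => hne (le_antisymm hS' (Subgroup.subgroupOf_eq_top.mp e))
    obtain ⟨s, hs, hs'⟩ := SetLike.exists_of_lt (Group.normalizerCondition_of_isNilpotent _ hlt)
    have hsE : (s : G) ∈ E := by
      refine Subgroup.mem_normalizer_iff.mpr fun c => ⟨fun hc => ?_, fun hc => ?_⟩
      · exact (Subgroup.mem_normalizer_iff.mp hs ⟨c, hS' hc⟩).mp hc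
      · have hcS : c ∈ (S' : Subgroup G) := by
          have := mul_mem (mul_mem (inv_mem s.2) (hS' hc)) s.2
          rwa [show (s : G)⁻¹ * ((s : G) * c * (s : G)⁻¹) * s = c by group] at this
        exact (Subgroup.mem_normalizer_iff.mp hs ⟨c, hcS⟩).mpr hc
    obtain ⟨k, hk⟩ := IsPGroup.iff_orderOf.mp S'.2 s
    rw [← Subgroup.orderOf_coe] at hk
    exact hs' (hWR ▸ (⟨hsE, h2M _ ⟨k, by rw [Subgroup.orderOf_mk, hk]⟩, k, hk⟩ : (s : G) ∈ W))
  intro a ha b hb
  obtain ⟨g, hg⟩ := MulAction.exists_smul_eq G S' S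
  have e : (S : Subgroup G) = (S' : Subgroup G).map (MulAut.conj g).toMonoidHom := by
    rw [← hg, Sylow.coe_subgroup_smul]
    rfl
  rw [← SetLike.mem_coe, ← Sylow.coe_coe, e, ← hRS] at ha hb
  obtain ⟨a', ha', rfl⟩ := ha
  obtain ⟨b', hb', rfl⟩ := hb
  rw [← map_mul, ← map_mul]
  exact congrArg _ (congrArg Subtype.val (hRab ⟨a', hRE ha'⟩ ha' ⟨b', hRE hb'⟩ hb'))

/-- The involution centralisers are elementary abelian and the Sylow 2-subgroups neither cyclic nor normal. -/
theorem exists_hyp (h : Prop' G) (hns : ¬ Group.IsSolvable G) (hsub : SubOK G) :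
    ∃ T : Sylow 2 G, CAGroup.Hyp T := by
  haveI : Fact (Nat.Prime 2) := ⟨Nat.prime_two⟩
  obtain ⟨T⟩ := (inferInstance : Nonempty (Sylow 2 G))
  have h2G := (even_card h hns hsub).two_dvd
  have hcyc : ¬ IsCyclic (T : Subgroup G) := fun hc => no_complement hns h2G
    (hasNormalPComplement_of_normalizer_le_centralizer T
      (hc.normalizer_le_centralizer ((Nat.minFac_eq_two_iff _).mpr h2G)))
  have hn : ¬ (T : Subgroup G).Normal := fun hn => by
    rcases hn.eq_bot_or_eq_top with e | e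
    · exact hcyc (by rw [e]; infer_instance)
    · refine hns ?_
      have hP : IsPGroup 2 G := by
        intro g
        obtain ⟨k, hk⟩ := T.2 ⟨g, by rw [e]; exact Subgroup.mem_top g⟩
        exact ⟨k, congrArg Subtype.val hk⟩
      haveI := hP.isNilpotent
      infer_instance
  have hab : ∀ t : G, orderOf t = 2 → IsMulCommutative (centralizer ({t} : Set G)) := by
    intro t ht
    refine isMulCommutative_iff.mpr ?_
    rcases centralizer_cases h hns hsub (x := t) (fun e => by rw [e, orderOf_one] at ht; omega) with hc | ⟨p, hp, hpg⟩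
    · exact hc
    haveI : Fact p.Prime := ⟨hp⟩
    obtain ⟨k, hk⟩ := IsPGroup.iff_orderOf.mp hpg ⟨t, mem_centralizer_singleton_iff.mpr rfl⟩
    rw [Subgroup.orderOf_mk, ht] at hk
    have hp2 : p = 2 :=
      ((Nat.prime_dvd_prime_iff_eq Nat.prime_two hp).mp (Nat.prime_two.dvd_of_dvd_pow (dvd_of_eq hk))).symm
    subst hp2
    obtain ⟨S, hS⟩ := hpg.exists_le_sylow
    exact fun a ha b hb => sylow_two_comm h hns hsub S a (hS ha) b (hS hb)
  have hA : AbInvCent.Hyp T := ⟨hcyc, hn, hab⟩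
  refine ⟨T, ⟨hcyc, hn, fun t ht => ⟨hab t ht, fun c hc => ?_⟩⟩⟩
  obtain ⟨g, hg⟩ := AbInvCent.exists_conj_T hA ht
  have hto : orderOf (g⁻¹ * t * g) = 2 := by
    have := Involutions.orderOf_conj g⁻¹ t
    rw [inv_inv] at this
    rw [this, ht]
  have hz := AbInvCent.sq_central hA (AbInvCent.mem_A_of_commute hA hg hto (x := g⁻¹ * c * g) (by
    calc g⁻¹ * c * g * (g⁻¹ * t * g) = g⁻¹ * (c * t) * g := by group
      _ = g⁻¹ * (t * c) * g := by rw [mem_centralizer_singleton_iff.mp hc]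
      _ = _ := by group))
  have hcen : Subgroup.center G = ⊥ := by
    refine (inferInstance : (Subgroup.center G).Normal).eq_bot_or_eq_top.resolve_right fun e => ?_
    exact not_comm hns fun a b => (Subgroup.mem_center_iff.mp (e ▸ Subgroup.mem_top a) b).symm
  rw [hcen, Subgroup.mem_bot] at hz
  calc c ^ 2 = g * (g⁻¹ * c * g * (g⁻¹ * c * g)) * g⁻¹ := by rw [pow_two]; group
    _ = 1 := by rw [hz]; group

end CfsgLib.SelfNormNA
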